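import Groth.Agent.ProjMor.HProj
import Groth.Agent.ProjMorph.Ample
import Groth.Agent.AmpleLib.Functorial
import Groth.Prelude.Def_RelProj

/-! `O(1)` is ample relative to `P^n_S ⟶ S`; immersions into `P^n_S` are quasi-projective;
`X ×_S P^n_S = P^n_X`. -/

noncomputable section

universe u

open CategoryTheory CategoryTheory.Limits AlgebraicGeometry

namespace Groth.Agent.ProjMor

set_option backward.isDefEq.respectTransparency.types false

variable {X S : Scheme.{u}}

theorem isRelAmple_twistOver (n : ℕ) (S : Scheme.{u}) :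
    RelAmple.IsRelAmple (CohB1.ProjSpaceOver.toBase n S) (Twist.twistOver n S 1) := by
  have := Groth.Agent.ProjProper.Basic.isProper_toBase n S
  refine ⟨inferInstance, fun V => ?_⟩
  let W := CohB1.ProjSpaceOver.toBase n S ⁻¹ᵁ V.1
  have : IsAffine (V.1 : Scheme.{u}) := V.2
  have haff : IsAffineHom (V.1.ι ≫ specULiftZIsTerminal.from S) := isAffineHom_of_isAffine _
  have h1 := (isPullback_morphismRestrict (CohB1.ProjSpaceOver.toBase n S) V.1).flip.paste_horiz (isPullback_fstP n (S := S))
  have hp : IsAffineHom (W.ι ≫ fstP n S) := MorphismProperty.of_isPullback h1.flip haff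
  exact AmpleLib.isAmple_of_iso
    (((Scheme.Modules.pullbackComp W.ι (fstP n S)).app _).symm ≪≫
      ((Scheme.Modules.restrictFunctorIsoPullback W.ι).app _).symm)
    (Groth.Agent.ProjMorph.isAmple_pullback_twist_of_isAffineHom (W.ι ≫ fstP n S) hp)

/-- A morphism of finite type factoring through an immersion into `P^n_S` is quasi-projective. -/
theorem isQuasiProjective_of_immersion (f : X ⟶ S) [LocallyOfFiniteType f] [QuasiCompact f] (n : ℕ)
    (j : X ⟶ CohB1.ProjSpaceOver n S) [IsImmersion j]
    (hj : j ≫ CohB1.ProjSpaceOver.toBase n S = f) : RelProj.IsQuasiProjective f := by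
  have := Groth.Agent.ProjProper.Basic.isProper_toBase n S
  have : QuasiCompact j := by
    have : QuasiCompact (j ≫ CohB1.ProjSpaceOver.toBase n S) := by rw [hj]; infer_instance
    exact QuasiCompact.of_comp j (CohB1.ProjSpaceOver.toBase n S)
  refine ⟨inferInstance, inferInstance, (Scheme.Modules.pullback j).obj (Twist.twistOver n S 1), ?_⟩
  subst hj
  obtain ⟨-, hL', hV⟩ := AmpleLib.isRelAmple_iff.mp (isRelAmple_twistOver n S)
  refine AmpleLib.isRelAmple_iff.mpr ⟨inferInstance, PicCl.isInvertible_pullback j hL', fun V ↦ ?_⟩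
  exact AmpleLib.ampleOn_pullback_of_isInducing hL' j le_rfl (hV V)
    ((j ≫ CohB1.ProjSpaceOver.toBase n S).isCompact_preimage V.2.isCompact) j.isEmbedding.isInducing

/-- A closed subscheme of `X ×_S P^n_S` is H-projective over `X`. -/
theorem isHProjective_of_closedImmersion (f : X ⟶ S) (n : ℕ) {T : Scheme.{u}}
    (k : T ⟶ pullback f (CohB1.ProjSpaceOver.toBase n S)) [IsClosedImmersion k] :
    RelProj.IsHProjective (k ≫ pullback.fst f (CohB1.ProjSpaceOver.toBase n S)) := by
  have h : IsPullback (pullback.snd f (CohB1.ProjSpaceOver.toBase n S) ≫ fstP n S)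
      (pullback.fst f (CohB1.ProjSpaceOver.toBase n S)) (CohB1.ProjSpace.toSpec n (ULift.{u} ℤ))
      (specULiftZIsTerminal.from X) := by
    have h0 := (IsPullback.of_hasPullback f (CohB1.ProjSpaceOver.toBase n S)).flip.paste_horiz
      (isPullback_fstP n (S := S))
    rwa [specULiftZIsTerminal.hom_ext (f ≫ specULiftZIsTerminal.from S) (specULiftZIsTerminal.from X)] at h0
  let e : pullback f (CohB1.ProjSpaceOver.toBase n S) ≅ CohB1.ProjSpaceOver n X := h.isoPullback
  have he : e.hom ≫ CohB1.ProjSpaceOver.toBase n X = pullback.fst f (CohB1.ProjSpaceOver.toBase n S) :=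
    h.isoPullback_hom_snd
  refine ⟨n, k ≫ e.hom, inferInstance, ?_⟩
  rw [Category.assoc, he]

end Groth.Agent.ProjMor
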