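import Groth.Agent.Chow.Main
import Groth.Agent.ProjMor.QProj

/-! Chow's lemma over a quasi-compact quasi-separated base, weak form. -/

noncomputable section

universe u

open CategoryTheory CategoryTheory.Limits AlgebraicGeometry TopologicalSpace

namespace Groth.Agent.ProjMor

open Groth.Agent.Chow

/-- The scheme-theoretic image of a reduced scheme is reduced. -/
theorem isReduced_image {X Y : Scheme.{u}} (f : X ⟶ Y) [IsReduced X] : IsReduced f.image := by
  have h : f.ker.radical ≤ f.ker := by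
    refine Scheme.IdealSheafData.le_ofIdeals_iff.mpr fun U a ha ↦ ?_
    obtain ⟨n, hn⟩ := ha
    have := Scheme.IdealSheafData.ideal_ofIdeals_le (fun U ↦ RingHom.ker (f.app U).hom) U hn
    rw [RingHom.mem_ker, map_pow] at this
    exact RingHom.mem_ker.mpr (IsReduced.eq_zero _ ⟨n, this⟩)
  have (U : Y.affineOpens) : IsReduced (f.ker.subschemeCover.openCover.X U) := by
    show IsReduced (Spec (CommRingCat.of (Γ(Y, U) ⧸ f.ker.ideal U)))
    have : _root_.IsReduced (CommRingCat.of (Γ(Y, U) ⧸ f.ker.ideal U)) :=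
      (Ideal.isRadical_iff_quotient_reduced _).mp fun a ha => h U ha
    infer_instance
  exact (IsReduced.iff_of_openCover _ f.ker.subschemeCover.openCover).mpr this

/-- A nonempty affine open inside a dense open avoiding the boundaries of finitely many opens. -/
theorem exists_affine_small {X : Scheme.{u}} [Nonempty X] {k : ℕ} (U : Fin k → X.Opens) :
    ∃ W : X.Opens, IsAffineOpen W ∧ (W : Set X).Nonempty ∧
      ∀ i, ∀ x ∈ W, x ∈ U i ∨ x ∉ closure (U i : Set X) := by
  obtain ⟨W, hW, h⟩ := exists_dense_opens U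
  obtain ⟨x, hx⟩ := hW.nonempty
  obtain ⟨_, ⟨W', hW', rfl⟩, hxW, hle⟩ := X.isBasis_affineOpens.exists_subset_of_mem_open hx W.isOpen
  exact ⟨W', hW', ⟨x, hxW⟩, fun i y hy => h i y (hle hy)⟩

/-- Chow's construction from a quasi-compact open avoiding the boundaries of an affine cover: a projective
morphism, isomorphism over that open, from a scheme immersed in `P^N_S`, in which that open is dense. -/
theorem chow_core {X S : Scheme.{u}} (f : X ⟶ S) [CompactSpace S] [QuasiSeparatedSpace S] [IsSeparated f]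
    [LocallyOfFiniteType f] [QuasiCompact f]
    (Pr : X.Opens → Prop) (hPr : ∀ (k : ℕ) (U : Fin k → X.Opens), ∃ W : X.Opens, IsCompact (W : Set X) ∧
      (∀ i, ∀ x ∈ W, x ∈ U i ∨ x ∉ closure (U i : Set X)) ∧ Pr W) :
    ∃ (N : ℕ) (Xbar : Scheme.{u}) (π : Xbar ⟶ X) (j : Xbar ⟶ CohB1.ProjSpaceOver N S) (W : X.Opens)
      (m : W.toScheme ⟶ Xbar), RelProj.IsProjective π ∧ IsProper π ∧ IsImmersion j ∧
        j ≫ CohB1.ProjSpaceOver.toBase N S = π ≫ f ∧ Pr W ∧ IsIso (π ∣_ W) ∧ m ≫ π = W.ι ∧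
        DenseRange m ∧ (IsReduced X → IsReduced Xbar) := by
  classical
  have : CompactSpace X := QuasiCompact.compactSpace_of_compactSpace f
  have : QuasiSeparatedSpace X := quasiSeparatedSpace_of_quasiSeparated f
  obtain ⟨k, U, V, hU, hV, hUV, hcov⟩ := exists_affine_pairs f
  have hdat : ∀ i, ∃ (n : ℕ) (Ω : (CohB1.ProjSpaceOver (n + 1) S).Opens)
      (j : (U i).toScheme ⟶ Ω.toScheme) (s : S ⟶ CohB1.ProjSpaceOver (n + 1) S),
      IsClosedImmersion j ∧ j ≫ Ω.ι ≫ CohB1.ProjSpaceOver.toBase (n + 1) S = (U i).ι ≫ f ∧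
        s ≫ CohB1.ProjSpaceOver.toBase (n + 1) S = 𝟙 S ∧ ∀ y, s y ∉ Ω := by
    intro i
    have : IsAffine (U i).toScheme := hU i
    obtain ⟨n, Ω, j, hΩ, hj, hjb⟩ := exists_affine_chart S (hV i) (f.resLE (V i) (U i) (hUV i))
    obtain ⟨s, hs, hs'⟩ := exists_section_avoiding S n
    exact ⟨n, Ω, j, s, hj, hjb.trans (Scheme.Hom.resLE_comp_ι _ _), hs, fun y h => hs' y (hΩ h)⟩
  choose d Ω j s hjc hjb hsb hsΩ using hdat
  obtain ⟨W, hWc, hW, hWP⟩ := hPr k U
  have hφi := fun i => exists_extension f _ (Ω i) (s i) (hsb i) (hsΩ i) (U i) W (hW i) (j i) (hjb i)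
  choose φi hφib hφiU hφiΩ using hφi
  obtain ⟨N, P, c, pr, hc, hpr, hl⟩ := exists_prodProj S k (fun i => d i + 1)
  obtain ⟨l, hlb, hlpr⟩ := hl W.toScheme (W.ι ≫ f) φi hφib
  have := ProjProper.Basic.isProper_toBase N S
  set bP := c ≫ CohB1.ProjSpaceOver.toBase N S with hbP
  set Q := pullback f bP
  set φ : W.toScheme ⟶ Q := pullback.lift W.ι l hlb.symm
  have hφfst : φ ≫ pullback.fst f bP = W.ι := pullback.lift_fst _ _ _
  have hφsnd : φ ≫ pullback.snd f bP = l := pullback.lift_snd _ _ _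
  have hWqc : QuasiCompact W.ι := by
    refine ⟨fun V hVo hVc => ?_⟩
    rw [W.ι.isOpenEmbedding.isEmbedding.isCompact_iff, Set.image_preimage_eq_inter_range, Scheme.Opens.range_ι]
    exact QuasiSeparatedSpace.inter_isCompact _ _ hVo hVc W.isOpen hWc
  have : IsImmersion φ := by
    have : IsImmersion (φ ≫ pullback.fst f bP) := by rw [hφfst]; infer_instance
    exact IsImmersion.of_comp φ (pullback.fst f bP)
  have : QuasiCompact φ := by
    have : QuasiCompact (φ ≫ pullback.fst f bP) := by rw [hφfst]; infer_instance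
    exact QuasiCompact.of_comp φ (pullback.fst f bP)
  set π := φ.imageι ≫ pullback.fst f bP
  set q := φ.imageι ≫ pullback.snd f bP
  have hπ : IsProper π := inferInstanceAs (IsProper (φ.imageι ≫ pullback.fst f bP))
  have hιπ : φ.toImage ≫ π = W.ι := by rw [← Category.assoc, Scheme.Hom.toImage_imageι, hφfst]
  have hιq : φ.toImage ≫ q = l := by rw [← Category.assoc, Scheme.Hom.toImage_imageι, hφsnd]
  have hqb : q ≫ bP = π ≫ f := by
    simp only [π, q, Category.assoc, pullback.condition]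
  refine ⟨N, φ.image, π, q ≫ c, W, φ.toImage, ?_, hπ, ?_, ?_, hWP, isIso_restrict_image (pullback.fst f bP) W φ hφfst,
    hιπ, φ.toImage.denseRange, ?_⟩
  · let i2 : pullback f bP ⟶ pullback f (CohB1.ProjSpaceOver.toBase N S) :=
      pullback.map f bP f (CohB1.ProjSpaceOver.toBase N S) (𝟙 _) c (𝟙 _) (by simp) (by simp [hbP])
    have : MorphismProperty.IsStableUnderComposition @IsClosedImmersion.{u} := isStableUnderComposition_closed
    have : IsClosedImmersion i2 :=
      MorphismProperty.pullbackMap (P := @IsClosedImmersion) inferInstance hc (Category.id_comp _).symm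
        hbP
    have h := isHProjective_of_closedImmersion f N (φ.imageι ≫ i2)
    rw [Category.assoc] at h
    rw [show i2 ≫ pullback.fst f (CohB1.ProjSpaceOver.toBase N S) = pullback.fst f bP from
      (pullback.lift_fst _ _ _).trans (Category.comp_id _)] at h
    exact isProjective_of_isHProjective _ h
  rotate_left
  · rw [Category.assoc, ← hbP, hqb]
  · intro hred
    have : IsReduced W.toScheme := isReduced_of_isOpenImmersion W.ι
    exact isReduced_image φ
  · suffices IsImmersion q from inferInstance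
    refine isImmersion_of_restrict q (fun i => pr i ⁻¹ᵁ Ω i) (fun x => ?_) fun i => ?_
    · obtain ⟨i, hi⟩ := hcov (π x)
      refine ⟨i, ?_⟩
      set M := π ⁻¹ᵁ U i
      set D : M.toScheme.Opens := M.ι ⁻¹ᵁ φ.toImage.opensRange
      have hD : Dense (D : Set M) :=
        (φ.toImage.denseRange : Dense (Set.range φ.toImage)).preimage M.ι.isOpenEmbedding.isOpenMap
      have hDr : Set.range (D.ι ≫ M.ι) ⊆ Set.range φ.toImage := by
        rintro _ ⟨z, rfl⟩
        exact z.2
      have hlift := IsOpenImmersion.lift_fac φ.toImage (D.ι ≫ M.ι) hDr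
      have key : D.ι ≫ M.ι ≫ q ≫ pr i = D.ι ≫ (π ∣_ U i) ≫ j i ≫ (Ω i).ι := by
        have h1 := hφiU i D.toScheme (IsOpenImmersion.lift φ.toImage (D.ι ≫ M.ι) hDr) (D.ι ≫ (π ∣_ U i))
          (by rw [← hιπ, ← Category.assoc (IsOpenImmersion.lift _ _ _), hlift, Category.assoc,
            Category.assoc, morphismRestrict_ι])
        rw [← hlpr i, ← hιq, Category.assoc, ← Category.assoc (IsOpenImmersion.lift _ _ _), hlift,
          Category.assoc, Category.assoc] at h1
        exact h1
      have := ProjProper.Basic.isProper_toBase (d i + 1) S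
      have heq := apply_eq_of_dense (CohB1.ProjSpaceOver.toBase (d i + 1) S)
        (M.ι ≫ q ≫ pr i) ((π ∣_ U i) ≫ j i ≫ (Ω i).ι)
        (by simp only [Category.assoc, hpr i, hjb i, ← hbP, hqb, morphismRestrict_ι_assoc]; rfl)
        D hD key ⟨x, hi⟩
      show pr i (q x) ∈ Ω i
      have h3 : (M.ι ≫ q ≫ pr i) ⟨x, hi⟩ = pr i (q x) := rfl
      rw [← h3, heq]
      exact ((j i) ((π ∣_ U i) ⟨x, hi⟩)).2
    set O := pr i ⁻¹ᵁ Ω i
    set r := pullback.snd f bP
    have := hjc i
    set z := pullback.fst (pr i ∣_ Ω i) (j i)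
    set u := pullback.snd (pr i ∣_ Ω i) (j i)
    have hzu : (z ≫ O.ι) ≫ bP = (u ≫ (U i).ι) ≫ f := by
      rw [← hpr i, Category.assoc, ← morphismRestrict_ι_assoc, ← Category.assoc z, pullback.condition,
        Category.assoc, hjb i, Category.assoc]
    set G₀ := pullback.lift (u ≫ (U i).ι) (z ≫ O.ι) hzu.symm
    have hG₀ : Set.range G₀ ⊆ Set.range (r ⁻¹ᵁ O).ι := by
      rintro _ ⟨y, rfl⟩
      rw [Scheme.Opens.range_ι]
      show r (G₀ y) ∈ O
      rw [← Scheme.Hom.comp_apply, pullback.lift_snd, Scheme.Hom.comp_apply]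
      exact (z y).2
    set G := IsOpenImmersion.lift (r ⁻¹ᵁ O).ι G₀ hG₀
    have hGz : G ≫ (r ∣_ O) = z := by
      rw [← cancel_mono O.ι, Category.assoc, morphismRestrict_ι, ← Category.assoc,
        IsOpenImmersion.lift_fac, pullback.lift_snd]
    have hz : IsClosedImmersion (G ≫ (r ∣_ O)) := by rw [hGz]; infer_instance
    have hGc : IsClosedImmersion G := IsClosedImmersion.of_comp G (r ∣_ O)
    set T := φ ⁻¹ᵁ (r ⁻¹ᵁ O)
    have hT : ∀ y : T.toScheme, l (T.ι y) ∈ O := by
      intro y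
      rw [← hφsnd, Scheme.Hom.comp_apply]
      exact y.2
    have ht1 : Set.range (T.ι ≫ W.ι) ⊆ Set.range (U i).ι := by
      rintro _ ⟨y, rfl⟩
      rw [Scheme.Opens.range_ι]
      refine hφiΩ i (T.ι y) ?_
      rw [← hlpr i, Scheme.Hom.comp_apply]
      exact hT y
    have ht2 : Set.range (T.ι ≫ l) ⊆ Set.range O.ι := by
      rintro _ ⟨y, rfl⟩
      rw [Scheme.Opens.range_ι]
      exact hT y
    set t1 := IsOpenImmersion.lift (U i).ι (T.ι ≫ W.ι) ht1
    set t2 := IsOpenImmersion.lift O.ι (T.ι ≫ l) ht2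
    have htc : t2 ≫ (pr i ∣_ Ω i) = t1 ≫ j i := by
      rw [← cancel_mono (Ω i).ι, Category.assoc, morphismRestrict_ι, ← Category.assoc,
        IsOpenImmersion.lift_fac, Category.assoc, hlpr i, Category.assoc,
        hφiU i _ T.ι t1 (IsOpenImmersion.lift_fac _ _ _)]
    refine isClosedImmersion_restrict_of_factor φ r O G (pullback.lift t2 t1 htc) ?_
    rw [← cancel_mono (r ⁻¹ᵁ O).ι, Category.assoc, IsOpenImmersion.lift_fac, morphismRestrict_ι]
    apply pullback.hom_ext
    · simp only [G₀, z, u, Category.assoc, pullback.lift_fst, pullback.lift_snd_assoc, hφfst]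
      exact IsOpenImmersion.lift_fac _ _ _
    · simp only [G₀, z, u, Category.assoc, pullback.lift_snd, pullback.lift_fst_assoc, hφsnd]
      exact (IsOpenImmersion.lift_fac _ _ _).trans (congrArg (T.ι ≫ ·) hφsnd.symm)

theorem chow_qcqs {X S : Scheme.{u}} (f : X ⟶ S) [CompactSpace S] [QuasiSeparatedSpace S] [IsSeparated f]
    [LocallyOfFiniteType f] [QuasiCompact f] [Nonempty X] :
    ∃ (Xbar : Scheme.{u}) (π : Xbar ⟶ X), RelProj.IsProjective π ∧ RelProj.IsQuasiProjective (π ≫ f) ∧
      ∃ U : X.Opens, (U : Set X).Nonempty ∧ IsIso (π ∣_ U) := by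
  obtain ⟨N, Xbar, π, j, W, m, hπP, hπ, hj, hjb, hne, hiso, -⟩ :=
    chow_core f (fun W => (W : Set X).Nonempty) fun k U => by
      obtain ⟨W, hW, hne, h⟩ := exists_affine_small U
      exact ⟨W, hW.isCompact, h, hne⟩
  exact ⟨Xbar, π, hπP, isQuasiProjective_of_immersion (π ≫ f) N j hjb, W, hne, hiso⟩

/-- With finitely many irreducible components there is a dense compact open avoiding the boundaries. -/
theorem exists_dense_compact {X : Scheme.{u}} (hirr : (irreducibleComponents (X : Type u)).Finite) {k : ℕ}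
    (U : Fin k → X.Opens) :
    ∃ W : X.Opens, IsCompact (W : Set X) ∧ (∀ i, ∀ x ∈ W, x ∈ U i ∨ x ∉ closure (U i : Set X)) ∧
      Dense (W : Set X) := by
  obtain ⟨W, hW, h⟩ := exists_dense_opens U
  have hgen : ∀ Z : irreducibleComponents (X : Type u), ∃ V : X.Opens, IsAffineOpen V ∧
      ((Z : Set X) ⊆ closure (V : Set X)) ∧ V ≤ W := by
    rintro ⟨Z, hZ⟩
    obtain ⟨η, hη⟩ := QuasiSober.sober hZ.1 (isClosed_of_mem_irreducibleComponents _ hZ)
    have hηW : η ∈ W := by
      have := hirr.fintype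
      have hsub : (W : Set X) ⊆ ⋃ Z' : irreducibleComponents (X : Type u),
          closure ((W : Set X) ∩ (Z' : Set X)) := fun y hy =>
        Set.mem_iUnion.2 ⟨⟨irreducibleComponent y, irreducibleComponent_mem_irreducibleComponents y⟩,
          subset_closure ⟨hy, mem_irreducibleComponent⟩⟩
      have hall : Set.univ ⊆ ⋃ Z' : irreducibleComponents (X : Type u), closure ((W : Set X) ∩ (Z' : Set X)) :=
        fun y _ => (isClosed_iUnion_of_finite fun _ => isClosed_closure).closure_subset_iff.2 hsub (hW y)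
      obtain ⟨Z', hZ'⟩ : ∃ Z' : irreducibleComponents (X : Type u), η ∈ closure ((W : Set X) ∩ (Z' : Set X)) :=
        Set.mem_iUnion.1 (hall (Set.mem_univ η))
      have hZle : Z ⊆ (Z' : Set X) := by
        rw [← hη.def]
        exact closure_minimal (Set.singleton_subset_iff.2 (closure_minimal Set.inter_subset_right
          (isClosed_of_mem_irreducibleComponents _ Z'.2) hZ')) (isClosed_of_mem_irreducibleComponents _ Z'.2)
      have heq : (Z' : Set X) = Z := Set.Subset.antisymm (hZ.2 Z'.2.1 hZle) hZle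
      obtain ⟨y, hyW, hyZ⟩ : ((W : Set X) ∩ (Z' : Set X)).Nonempty :=
        Set.nonempty_iff_ne_empty.2 fun he => by simp [he] at hZ'
      exact (hη.mem_open_set_iff W.isOpen).2 ⟨y, heq ▸ hyZ, hyW⟩
    obtain ⟨_, ⟨V, hV, rfl⟩, hηV, hle⟩ := X.isBasis_affineOpens.exists_subset_of_mem_open hηW W.isOpen
    exact ⟨V, hV, hη.def.symm.subset.trans (closure_mono (Set.singleton_subset_iff.2 hηV)), fun x hx => hle hx⟩
  choose V hV hZV hVW using hgen
  have := hirr.to_subtype
  refine ⟨⨆ Z, V Z, ?_, fun i x hx => ?_, fun x => ?_⟩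
  · rw [Opens.coe_iSup]
    exact isCompact_iUnion fun Z => (hV Z).isCompact
  · obtain ⟨Z, hZ⟩ := Opens.mem_iSup.1 hx
    exact h i x (hVW Z hZ)
  · obtain ⟨Z, hZ, hxZ⟩ : ∃ Z ∈ irreducibleComponents (X : Type u), x ∈ Z :=
      ⟨irreducibleComponent x, irreducibleComponent_mem_irreducibleComponents x, mem_irreducibleComponent⟩
    refine closure_mono ?_ (hZV ⟨Z, hZ⟩ hxZ)
    rw [Opens.coe_iSup]
    exact Set.subset_iUnion (fun Z => (V Z : Set X)) ⟨Z, hZ⟩

/-- Chow's lemma over a quasi-compact quasi-separated base, finitely many irreducible components. -/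
theorem chow_finite_components {X S : Scheme.{u}} (f : X ⟶ S) [CompactSpace S] [QuasiSeparatedSpace S]
    [IsSeparated f] [LocallyOfFiniteType f] [QuasiCompact f]
    (hirr : (irreducibleComponents (X : Type u)).Finite) :
    ∃ (N : ℕ) (X' : Scheme.{u}) (π : X' ⟶ X) (j : X' ⟶ CohB1.ProjSpaceOver N S) (W : X.Opens),
      RelProj.IsProjective π ∧ IsProper π ∧ Surjective π ∧ IsImmersion j ∧
        j ≫ CohB1.ProjSpaceOver.toBase N S = π ≫ f ∧ Dense (W : Set X) ∧
        Dense ((π ⁻¹ᵁ W : X'.Opens) : Set X') ∧ IsIso (π ∣_ W) ∧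
        (IsReduced X → IsReduced X') ∧ (IrreducibleSpace X → IrreducibleSpace X') := by
  obtain ⟨N, X', π, j, W, m, hπP, hπ, hj, hjb, hWd, hiso, hm, hdr, hred⟩ :=
    chow_core f (fun W => Dense (W : Set X)) fun k U => exists_dense_compact hirr U
  refine ⟨N, X', π, j, W, hπP, hπ, ?_, hj, hjb, hWd, ?_, hiso, hred, fun hX => ?_⟩
  · refine ⟨fun x => ?_⟩
    refine π.isClosedMap.isClosed_range.closure_subset_iff.2 ?_ (hWd x)
    intro y hy
    exact ⟨m (⟨y, hy⟩ : W.toScheme), congrArg (fun (g : W.toScheme ⟶ X) => g ⟨y, hy⟩) hm⟩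
  · refine hdr.mono ?_
    rintro _ ⟨w, rfl⟩
    show π (m w) ∈ W
    rw [← Scheme.Hom.comp_apply, hm]
    exact w.2
  · have hne : (W : Set X).Nonempty := hWd.nonempty
    have hirrW : IrreducibleSpace W.toScheme := by
      have h1 : IsIrreducible (W : Set X) :=
        ⟨hne, hX.isPreirreducible_univ.open_subset W.isOpen (Set.subset_univ _)⟩
      exact Subtype.irreducibleSpace h1
    have : IsIrreducible (Set.range m) := Set.image_univ (f := m) ▸
      (IrreducibleSpace.isIrreducible_univ _).image _ m.continuous.continuousOn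
    have h2 := this.closure
    rw [hdr.closure_range] at h2
    exact (irreducibleSpace_def _).2 h2

end Groth.Agent.ProjMor
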