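import Groth.Agent.RelProjLib.Localization
import Mathlib.RingTheory.GradedAlgebra.Homogeneous.Ideal

/-! The homogeneous ideal cut out by a compatible family of ideals on the standard charts of `Proj A`. -/

noncomputable section

universe u

open HomogeneousLocalization DirectSum
open scoped HomogeneousIdeal
open Groth.Agent.RelProjLib (IsAwayZero away_isLocalization)

namespace Groth.Agent.ProjMor

variable {A σ : Type u} [CommRing A] [SetLike σ A] [AddSubgroupClass σ A] (𝒜 : ℕ → σ) [GradedRing 𝒜]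

/-- A family of ideals on the standard charts of `Proj A`. -/
abbrev ChartFam := ∀ (d : ℕ) (f : A), f ∈ 𝒜 d → Ideal (Away 𝒜 f)

variable {𝒜} (𝔞 : ChartFam 𝒜)

/-- The family agrees on overlaps. -/
def Compat : Prop :=
  ∀ (d e : ℕ), 0 < d → 0 < e → ∀ (f g : A) (hf : f ∈ 𝒜 d) (hg : g ∈ 𝒜 e),
    (𝔞 d f hf).map (awayMap 𝒜 hg (x := f * g) rfl) =
      (𝔞 e g hg).map (awayMap 𝒜 hf (x := f * g) (mul_comm f g))

/-- Numerators of the elements of the chart ideal. -/
def num (d : ℕ) (f : A) (hf : f ∈ 𝒜 d) : Set A :=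
  {s | ∃ (l : ℕ) (hs : s ∈ 𝒜 (l • d)), Away.mk 𝒜 hf l s hs ∈ 𝔞 d f hf}

/-- The saturation at `f` of the ideal of numerators. -/
def sat (d : ℕ) (f : A) (hf : f ∈ 𝒜 d) : Ideal A where
  carrier := {y | ∃ n : ℕ, f ^ n * y ∈ Ideal.span (num 𝔞 d f hf)}
  zero_mem' := ⟨0, by simp⟩
  add_mem' := by
    rintro x y ⟨n, hn⟩ ⟨m, hm⟩
    refine ⟨n + m, ?_⟩
    rw [mul_add]
    refine add_mem ?_ ?_
    · rw [pow_add, mul_comm (f ^ n), mul_assoc]; exact Ideal.mul_mem_left _ _ hn
    · rw [pow_add, mul_assoc]; exact Ideal.mul_mem_left _ _ hm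
  smul_mem' := by
    rintro c x ⟨n, hn⟩
    refine ⟨n, ?_⟩
    rw [smul_eq_mul, mul_left_comm]
    exact Ideal.mul_mem_left _ _ hn

theorem sat_saturated {d : ℕ} {f : A} {hf : f ∈ 𝒜 d} {N : ℕ} {y : A} (h : f ^ N * y ∈ sat 𝔞 d f hf) :
    y ∈ sat 𝔞 d f hf := by
  obtain ⟨n, hn⟩ := h
  exact ⟨n + N, by rw [pow_add, mul_assoc]; exact hn⟩

/-- The homogeneous ideal cut out by the family. -/
def core : Ideal A := ⨅ (d : ℕ) (f : A) (hf : f ∈ 𝒜 d) (_ : 0 < d), sat 𝔞 d f hf

theorem mem_core {y : A} :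
    y ∈ core 𝔞 ↔ ∀ (d : ℕ) (f : A) (hf : f ∈ 𝒜 d), 0 < d → y ∈ sat 𝔞 d f hf := by
  simp [core, Submodule.mem_iInf]

theorem sat_isHomogeneous (d : ℕ) (f : A) (hf : f ∈ 𝒜 d) : (sat 𝔞 d f hf).IsHomogeneous 𝒜 := by
  intro i y hy
  obtain ⟨n, hn⟩ := hy
  have hspan : (Ideal.span (num 𝔞 d f hf)).IsHomogeneous 𝒜 :=
    Ideal.homogeneous_span _ _ fun s ⟨l, hs, _⟩ => ⟨_, hs⟩
  refine ⟨n, ?_⟩
  have hfn : f ^ n ∈ 𝒜 (n • d) := SetLike.pow_mem_graded n hf
  have e : f ^ n * (decompose 𝒜 y i : A) = (decompose 𝒜 (f ^ n * y) (n • d + i) : A) :=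
    (coe_decompose_mul_add_of_left_mem 𝒜 hfn).symm
  rw [e]
  exact hspan (n • d + i) hn

theorem core_isHomogeneous : (core 𝔞).IsHomogeneous 𝒜 :=
  Ideal.IsHomogeneous.iInf fun d => Ideal.IsHomogeneous.iInf fun f => Ideal.IsHomogeneous.iInf fun hf =>
    Ideal.IsHomogeneous.iInf fun _ => sat_isHomogeneous 𝔞 d f hf

omit [GradedRing 𝒜] in
theorem mk_congr {d : ℕ} {f : A} {hf : f ∈ 𝒜 d} {n n' : ℕ} {x x' : A} {hx : x ∈ 𝒜 (n • d)}
    {hx' : x' ∈ 𝒜 (n' • d)} [GradedRing 𝒜] (h : x * f ^ n' = x' * f ^ n) :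
    Away.mk 𝒜 hf n x hx = Away.mk 𝒜 hf n' x' hx' := by
  apply val_injective
  rw [Away.val_mk, Away.val_mk, Localization.mk_eq_mk_iff, Localization.r_iff_exists]
  exact ⟨1, by simp only [OneMemClass.coe_one, one_mul]; linear_combination h⟩

theorem mk_mul_mk {d : ℕ} {f : A} {hf : f ∈ 𝒜 d} {n m : ℕ} {x y : A} {hx : x ∈ 𝒜 (n • d)}
    {hy : y ∈ 𝒜 (m • d)} (h : x * y ∈ 𝒜 ((n + m) • d)) :
    Away.mk 𝒜 hf n x hx * Away.mk 𝒜 hf m y hy = Away.mk 𝒜 hf (n + m) (x * y) h := by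
  apply val_injective
  rw [val_mul, Away.val_mk, Away.val_mk, Away.val_mk, Localization.mk_mul]
  congr 1
  exact Subtype.ext (pow_add f n m).symm

/-- `F1`: homogeneous members of the span of the numerators are numerators. -/
theorem mk_mem_of_mem_span {d : ℕ} {f : A} {hf : f ∈ 𝒜 d} (hd : 0 < d) {L : ℕ} {z : A}
    (hzL : z ∈ 𝒜 (L • d)) (hz : z ∈ Ideal.span (num 𝔞 d f hf)) :
    Away.mk 𝒜 hf L z hzL ∈ 𝔞 d f hf := by
  classical
  suffices h : ∀ (b : A) (L : ℕ),
      Away.mk 𝒜 hf L (decompose 𝒜 (b * z) (L • d) : A) (SetLike.coe_mem _) ∈ 𝔞 d f hf by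
    convert h 1 L using 2
    rw [one_mul, decompose_of_mem_same _ hzL]
  clear hzL L
  induction hz using Submodule.span_induction with
  | zero =>
    intro b L
    have e : Away.mk 𝒜 hf L (decompose 𝒜 (b * 0) (L • d) : A) (SetLike.coe_mem _) = 0 := by
      apply val_injective
      simp [Away.val_mk, Localization.mk_zero]
    rw [e]; exact zero_mem _
  | add x y _ _ ihx ihy =>
    intro b L
    have e : Away.mk 𝒜 hf L (decompose 𝒜 (b * (x + y)) (L • d) : A) (SetLike.coe_mem _) =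
        Away.mk 𝒜 hf L (decompose 𝒜 (b * x) (L • d) : A) (SetLike.coe_mem _) +
          Away.mk 𝒜 hf L (decompose 𝒜 (b * y) (L • d) : A) (SetLike.coe_mem _) := by
      apply val_injective
      simp only [mul_add, decompose_add, val_add, Away.val_mk, Localization.add_mk_self]
      rfl
    rw [e]; exact add_mem (ihx b L) (ihy b L)
  | smul c x _ ih =>
    intro b L
    convert ih (b * c) L using 2
    simp only [smul_eq_mul, mul_assoc]
  | mem s hs =>
    intro b L
    obtain ⟨l, hsl, hs⟩ := hs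
    rcases le_or_gt (l • d) (L • d) with hle | hlt
    · have hlL : l ≤ L := Nat.le_of_mul_le_mul_right (by simpa using hle) hd
      obtain ⟨j, rfl⟩ := Nat.exists_eq_add_of_le hlL
      have e1 : (decompose 𝒜 (b * s) ((l + j) • d) : A) = (decompose 𝒜 b (j • d) : A) * s := by
        rw [show (l + j) • d = j • d + l • d by rw [← add_smul, add_comm],
          coe_decompose_mul_add_of_right_mem 𝒜 hsl]
      have e2 : Away.mk 𝒜 hf (l + j) (decompose 𝒜 (b * s) ((l + j) • d) : A) (SetLike.coe_mem _) =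
          Away.mk 𝒜 hf j (decompose 𝒜 b (j • d) : A) (SetLike.coe_mem _) * Away.mk 𝒜 hf l s hsl := by
        rw [mk_mul_mk (by rw [add_smul]; exact SetLike.mul_mem_graded (SetLike.coe_mem _) hsl)]
        exact mk_congr (by rw [e1, add_comm l j])
      rw [e2]; exact Ideal.mul_mem_left _ _ hs
    · have e1 : (decompose 𝒜 (b * s) (L • d) : A) = 0 :=
        coe_decompose_mul_of_right_mem_of_not_le 𝒜 hsl hlt.not_ge
      have e : Away.mk 𝒜 hf L (decompose 𝒜 (b * s) (L • d) : A) (SetLike.coe_mem _) = 0 := by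
        apply val_injective
        rw [Away.val_mk, val_zero]
        simp only [e1, Localization.mk_zero]
      rw [e]; exact zero_mem _

/-- `F2`: numerators spread to every other chart after multiplication by a power. -/
theorem exists_pow_mem_num (hc : Compat 𝔞) {d : ℕ} (hd : 0 < d) {f : A} {hf : f ∈ 𝒜 d} {k : ℕ} {x : A}
    {hx : x ∈ 𝒜 (k • d)} (h : Away.mk 𝒜 hf k x hx ∈ 𝔞 d f hf) {e : ℕ} (he : 0 < e) {g : A}
    (hg : g ∈ 𝒜 e) : ∃ n : ℕ, f ^ n * x ∈ num 𝔞 e g hg := by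
  obtain ⟨e', rfl⟩ : ∃ e', e = e' + 1 := ⟨e - 1, by omega⟩
  let _ := (awayMap 𝒜 hf (f := g) (x := f * g) (mul_comm f g)).toAlgebra
  have hloc : IsLocalization.Away (Away.isLocalizationElem hg hf) (Away 𝒜 (f * g)) :=
    Away.isLocalization_mul hg hf (mul_comm f g) (by omega)
  have hv : f ^ (k * e') * x ∈ 𝒜 ((k * d) • (e' + 1)) := by
    have := SetLike.mul_mem_graded (SetLike.pow_mem_graded (k * e') hf) hx
    convert this using 2
    simp only [smul_eq_mul]; ring
  let t := Away.isLocalizationElem hg hf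
  let v := Away.mk 𝒜 hg (k * d) (f ^ (k * e') * x) hv
  have hmem : algebraMap (Away 𝒜 g) (Away 𝒜 (f * g)) v ∈
      (𝔞 (e' + 1) g hg).map (algebraMap (Away 𝒜 g) (Away 𝒜 (f * g))) := by
    have h1 := Ideal.mem_map_of_mem (awayMap 𝒜 hg (f := f) (x := f * g) rfl) h
    rw [hc d _ hd he f g hf hg] at h1
    have e1 : algebraMap (Away 𝒜 g) (Away 𝒜 (f * g)) v =
        awayMap 𝒜 hg rfl (Away.mk 𝒜 hf k x hx) * algebraMap (Away 𝒜 g) (Away 𝒜 (f * g)) t ^ k := by
      apply val_injective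
      simp only [RingHom.algebraMap_toAlgebra, t, v, Away.isLocalizationElem, awayMap_mk, val_mul, val_pow,
        Away.val_mk, Localization.mk_pow, Localization.mk_mul]
      rw [Localization.mk_eq_mk_iff, Localization.r_iff_exists]
      exact ⟨1, by simp; ring⟩
    rw [e1]
    exact Ideal.mul_mem_right _ _ h1
  rw [IsLocalization.algebraMap_mem_map_algebraMap_iff (Submonoid.powers t)] at hmem
  obtain ⟨_, ⟨m, rfl⟩, hm⟩ := hmem
  have hn : f ^ (k * e' + m * (e' + 1)) * x ∈ 𝒜 ((m * d + k * d) • (e' + 1)) := by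
    have := SetLike.mul_mem_graded (SetLike.pow_mem_graded (k * e' + m * (e' + 1)) hf) hx
    convert this using 2
    simp only [smul_eq_mul]; ring
  refine ⟨k * e' + m * (e' + 1), m * d + k * d, hn, ?_⟩
  convert hm using 1
  apply val_injective
  simp only [t, v, Away.isLocalizationElem, val_mul, val_pow, Away.val_mk, Localization.mk_pow,
    Localization.mk_mul]
  rw [Localization.mk_eq_mk_iff, Localization.r_iff_exists]
  exact ⟨1, by simp; ring⟩

theorem num_subset_sat (d : ℕ) (f : A) (hf : f ∈ 𝒜 d) : num 𝔞 d f hf ⊆ sat 𝔞 d f hf :=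
  fun _ hs => ⟨0, by simpa using Ideal.subset_span hs⟩

variable {ι : Type*} [Finite ι] (deg : ι → ℕ) (el : ι → A)

/-- A finite family of homogeneous elements whose charts cover `Proj A`. -/
structure Covers : Prop where
  pos : ∀ j, 0 < deg j
  mem : ∀ j, el j ∈ 𝒜 (deg j)
  rad : ∀ (d : ℕ), 0 < d → ∀ f ∈ 𝒜 d, f ∈ (Ideal.span (Set.range el)).radical

variable {deg el}

omit [Finite ι] in
/-- `F3`: membership in the core is checked on a cover. -/
theorem mem_core_of_cover (hc : Compat 𝔞) (hT : Covers (𝒜 := 𝒜) deg el) {y : A}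
    (h : ∀ j, y ∈ sat 𝔞 (deg j) (el j) (hT.mem j)) : y ∈ core 𝔞 := by
  rw [mem_core]
  intro e g hg he
  let C : Ideal A := (sat 𝔞 e g hg).colon (Ideal.span {y})
  have hC : ∀ a, a * y ∈ sat 𝔞 e g hg → a ∈ C := fun a ha =>
    Submodule.mem_colon.2 fun z hz => by
      obtain ⟨b, rfl⟩ := Ideal.mem_span_singleton'.1 hz
      rw [smul_eq_mul, mul_left_comm]
      exact Ideal.mul_mem_left _ _ ha
  have hCy : ∀ a ∈ C, a * y ∈ sat 𝔞 e g hg := fun a ha =>
    Submodule.mem_colon.1 ha y (Ideal.mem_span_singleton_self y)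
  have key : Ideal.span (Set.range el) ≤ C.radical := by
    rw [Ideal.span_le]
    rintro _ ⟨j, rfl⟩
    obtain ⟨n, hn⟩ := h j
    have step : ∀ z ∈ Ideal.span (num 𝔞 (deg j) (el j) (hT.mem j)),
        ∃ m, el j ^ m * z ∈ sat 𝔞 e g hg := by
      intro z hz
      induction hz using Submodule.span_induction with
      | zero => exact ⟨0, by simp⟩
      | add a b _ _ iha ihb =>
        obtain ⟨p, hp⟩ := iha
        obtain ⟨q, hq⟩ := ihb
        refine ⟨p + q, ?_⟩
        rw [mul_add]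
        refine add_mem ?_ ?_
        · rw [pow_add, mul_comm (el j ^ p), mul_assoc]; exact Ideal.mul_mem_left _ _ hp
        · rw [pow_add, mul_assoc]; exact Ideal.mul_mem_left _ _ hq
      | smul c a _ ih =>
        obtain ⟨p, hp⟩ := ih
        exact ⟨p, by rw [smul_eq_mul, mul_left_comm]; exact Ideal.mul_mem_left _ _ hp⟩
      | mem s hs =>
        obtain ⟨l, hl, hs⟩ := hs
        obtain ⟨p, hp⟩ := exists_pow_mem_num 𝔞 hc (hT.pos j) hs he hg
        exact ⟨p, num_subset_sat 𝔞 e g hg hp⟩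
    obtain ⟨m, hm⟩ := step _ hn
    exact ⟨m + n, hC _ (by rw [pow_add, mul_assoc]; exact hm)⟩
  have h1 := Ideal.radical_mono key (hT.rad e he g hg)
  rw [Ideal.radical_idem] at h1
  obtain ⟨N, hN⟩ := h1
  exact sat_saturated 𝔞 (hCy _ hN)

/-- `F5`: the core recovers the chart ideals. -/
theorem mk_mem_iff (hc : Compat 𝔞) (hT : Covers (𝒜 := 𝒜) deg el) {d : ℕ} (hd : 0 < d) {f : A}
    {hf : f ∈ 𝒜 d} {k : ℕ} {x : A} {hx : x ∈ 𝒜 (k • d)} :
    Away.mk 𝒜 hf k x hx ∈ 𝔞 d f hf ↔ ∃ n : ℕ, f ^ n * x ∈ core 𝔞 := by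
  constructor
  · intro h
    choose n hn using fun j => exists_pow_mem_num 𝔞 hc hd h (hT.pos j) (hT.mem j)
    obtain ⟨N, hN⟩ := Finite.exists_le n
    refine ⟨N, mem_core_of_cover 𝔞 hc hT fun j => ?_⟩
    obtain ⟨p, hp⟩ := Nat.exists_eq_add_of_le (hN j)
    rw [hp, add_comm, pow_add, mul_assoc]
    exact Ideal.mul_mem_left _ _ (num_subset_sat 𝔞 _ _ _ (hn j))
  · rintro ⟨n, hn⟩
    obtain ⟨m, hm⟩ := (mem_core 𝔞).1 hn d f hf hd
    rw [← mul_assoc, ← pow_add] at hm
    have hmem : f ^ (m + n) * x ∈ 𝒜 ((m + n + k) • d) := by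
      rw [add_smul]; exact SetLike.mul_mem_graded (SetLike.pow_mem_graded _ hf) hx
    convert mk_mem_of_mem_span 𝔞 hd hmem hm using 1
    exact mk_congr (by rw [pow_add (f) (m + n) k]; ring)

section localization

variable {B τ : Type u} [CommRing B] [SetLike τ B] [AddSubgroupClass τ B] {ℬ : ℕ → τ} [GradedRing ℬ]
  {ψ : 𝒜 →+*ᵍ ℬ} {c : 𝒜 0} (𝔟 : ChartFam ℬ)

omit [Finite ι] in
theorem Covers.map (hT : Covers (𝒜 := 𝒜) deg el) (hψ : ℬ₊ ≤ 𝒜₊.map ψ) :
    Covers (𝒜 := ℬ) deg (fun j => ψ (el j)) where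
  pos := hT.pos
  mem j := ψ.2 (hT.mem j)
  rad d hd b hb := by
    have hle : (HomogeneousIdeal.irrelevant 𝒜).toIdeal ≤ (Ideal.span (Set.range el)).radical := by
      rw [HomogeneousIdeal.toIdeal_irrelevant_le]
      exact fun i hi a ha => hT.rad i hi a ha
    have hb' : b ∈ (HomogeneousIdeal.irrelevant 𝒜).toIdeal.map ψ :=
      hψ (HomogeneousIdeal.mem_irrelevant_of_mem _ hd hb)
    have h2 := ((Ideal.map_mono hle).trans (Ideal.map_radical_le ψ)) hb'
    rwa [Ideal.map_span, ← Set.range_comp] at h2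

/-- Functoriality of the core along a localisation at a degree-zero element. -/
theorem core_map (hψ : IsAwayZero ψ c) (hirr : ℬ₊ ≤ 𝒜₊.map ψ) (ha : Compat 𝔞) (hb : Compat 𝔟)
    (hT : Covers (𝒜 := 𝒜) deg el)
    (hnat : ∀ (d : ℕ), 0 < d → ∀ (f : A) (hf : f ∈ 𝒜 d),
      𝔟 d (ψ f) (ψ.2 hf) = (𝔞 d f hf).map (Away.map ψ f)) :
    (∀ x ∈ core 𝔞, ψ x ∈ core 𝔟) ∧ ∀ x : A, ψ x ∈ core 𝔟 → ∃ k : ℕ, (c : A) ^ k * x ∈ core 𝔞 := by
  classical
  constructor
  · intro x hx
    refine mem_core_of_cover 𝔟 hb (hT.map hirr) fun j => ?_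
    obtain ⟨n, hn⟩ := (mem_core 𝔞).1 hx _ _ (hT.mem j) (hT.pos j)
    refine ⟨n, ?_⟩
    have h1 : ψ (el j ^ n * x) ∈ (Ideal.span (num 𝔞 (deg j) (el j) (hT.mem j))).map ψ :=
      Ideal.mem_map_of_mem ψ hn
    rw [map_mul, map_pow] at h1
    refine (Ideal.map_le_iff_le_comap.2 (Ideal.span_le.2 ?_)) h1
    rintro s ⟨l, hl, hs⟩
    refine Ideal.subset_span ⟨l, ψ.2 hl, ?_⟩
    rw [hnat _ (hT.pos j) _ (hT.mem j)]
    have := Ideal.mem_map_of_mem (Away.map ψ (el j)) hs
    rwa [Away.map_mk] at this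
  · intro x hx
    have hj : ∀ j, ∃ k : ℕ, (c : A) ^ k * x ∈ sat 𝔞 (deg j) (el j) (hT.mem j) := by
      intro j
      obtain ⟨n, hn⟩ := (mem_core 𝔟).1 hx _ _ (ψ.2 (hT.mem j)) (hT.pos j)
      have step : ∀ z ∈ Ideal.span (num 𝔟 (deg j) (ψ (el j)) (ψ.2 (hT.mem j))),
          ∃ (k : ℕ) (z₀ : A), z₀ ∈ Ideal.span (num 𝔞 (deg j) (el j) (hT.mem j)) ∧
            z * ψ (c : A) ^ k = ψ z₀ := by
        intro z hz
        induction hz using Submodule.span_induction with
        | zero => exact ⟨0, 0, zero_mem _, by simp⟩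
        | add a b _ _ iha ihb =>
          obtain ⟨p, a₀, ha₀, hp⟩ := iha
          obtain ⟨q, b₀, hb₀, hq⟩ := ihb
          refine ⟨p + q, a₀ * (c : A) ^ q + b₀ * (c : A) ^ p,
            add_mem (Ideal.mul_mem_right _ _ ha₀) (Ideal.mul_mem_right _ _ hb₀), ?_⟩
          simp only [map_add, map_mul, map_pow, ← hp, ← hq]; ring
        | smul b a _ ih =>
          obtain ⟨p, a₀, ha₀, hp⟩ := ih
          obtain ⟨b₀, q, hq⟩ := hψ.surj b
          refine ⟨q + p, b₀ * a₀, Ideal.mul_mem_left _ _ ha₀, ?_⟩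
          simp only [smul_eq_mul, map_mul, ← hp, ← hq]; ring
        | mem s hs =>
          obtain ⟨l, hl, hs⟩ := hs
          obtain ⟨s₁, p, hp⟩ := hψ.surj s
          have hbk : s * ψ (c : A) ^ p ∈ ℬ (l • deg j) := by
            simpa using SetLike.mul_mem_graded (A := ℬ) hl (SetLike.pow_mem_graded p (ψ.2 c.2))
          let s₀ : A := (decompose 𝒜 s₁ (l • deg j) : A)
          have hs₀ : ψ s₀ = s * ψ (c : A) ^ p := by
            rw [GradedRingHom.map_directSumDecompose, ← hp, decompose_of_mem_same _ hbk]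
          let _ := (Away.map ψ (el j)).toAlgebra
          have := away_isLocalization hψ (hT.mem j)
          let C := fromZeroRingHom 𝒜 (Submonoid.powers (el j)) c
          rw [hnat _ (hT.pos j) _ (hT.mem j)] at hs
          have hmem : algebraMap (Away 𝒜 (el j)) (Away ℬ (ψ (el j)))
              (Away.mk 𝒜 (hT.mem j) l s₀ (SetLike.coe_mem _)) ∈
              (𝔞 (deg j) (el j) (hT.mem j)).map (algebraMap (Away 𝒜 (el j)) (Away ℬ (ψ (el j)))) := by
            have hp0 : ψ (c : A) ^ p ∈ ℬ (0 • deg j) := by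
              simpa using SetLike.pow_mem_graded (A := ℬ) p (ψ.2 c.2)
            have e : algebraMap (Away 𝒜 (el j)) (Away ℬ (ψ (el j)))
                (Away.mk 𝒜 (hT.mem j) l s₀ (SetLike.coe_mem _)) =
                Away.mk ℬ (ψ.2 (hT.mem j)) 0 (ψ (c : A) ^ p) hp0 * Away.mk ℬ (ψ.2 (hT.mem j)) l s hl := by
              rw [RingHom.algebraMap_toAlgebra, Away.map_mk]
              apply val_injective
              simp only [val_mul, Away.val_mk, Localization.mk_mul, hs₀]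
              rw [Localization.mk_eq_mk_iff, Localization.r_iff_exists]
              exact ⟨1, by simp; ring⟩
            rw [e]
            exact Ideal.mul_mem_left _ _ hs
          rw [IsLocalization.algebraMap_mem_map_algebraMap_iff (Submonoid.powers C)] at hmem
          obtain ⟨_, ⟨m, rfl⟩, hm⟩ := hmem
          have hm0 : (c : A) ^ m * s₀ ∈ 𝒜 (l • deg j) := by
            simpa [s₀] using SetLike.mul_mem_graded (SetLike.pow_mem_graded m c.2)
              (SetLike.coe_mem (decompose 𝒜 s₁ (l • deg j)))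
          refine ⟨p + m, (c : A) ^ m * s₀, Ideal.subset_span ⟨l, hm0, ?_⟩, ?_⟩
          · convert hm using 1
            apply val_injective
            simp only [C, val_mul, val_pow, Away.val_mk]
            erw [HomogeneousLocalization.val_mk]
            rw [Localization.mk_pow, Localization.mk_mul, Localization.mk_eq_mk_iff,
              Localization.r_iff_exists]
            exact ⟨1, by simp⟩
          · rw [map_mul, map_pow, hs₀]; ring
      obtain ⟨k, z₀, hz₀, hk'⟩ := step _ hn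
      have hk : ψ (el j) ^ n * ψ x * ψ (c : A) ^ k = ψ z₀ := hk'
      clear hk'
      obtain ⟨k', hk'⟩ := hψ.ker ((c : A) ^ k * (el j ^ n * x) - z₀) (by
        rw [map_sub, map_mul, map_mul, map_pow, map_pow, ← hk]; ring)
      refine ⟨k' + k, n, ?_⟩
      have e : el j ^ n * ((c : A) ^ (k' + k) * x) = (c : A) ^ k' * z₀ := by
        linear_combination hk'
      rw [e]
      exact Ideal.mul_mem_left _ _ hz₀
    choose k hk using hj
    obtain ⟨N, hN⟩ := Finite.exists_le k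
    refine ⟨N, mem_core_of_cover 𝔞 ha hT fun j => ?_⟩
    obtain ⟨p, hp⟩ := Nat.exists_eq_add_of_le (hN j)
    rw [hp, add_comm, pow_add, mul_assoc]
    exact Ideal.mul_mem_left _ _ (hk j)

end localization

end Groth.Agent.ProjMor
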