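import Groth.Agent.ProjMor.Local
import Groth.Agent.AmpleLib.CompLemma
import Groth.Agent.S9691

/-! Quasi-projective morphisms are H-quasi-projective over affine opens; local very ampleness. -/

noncomputable section

universe u

open CategoryTheory CategoryTheory.Limits AlgebraicGeometry TopologicalSpace
open RelProj

namespace Groth.Agent.ProjMor

set_option backward.isDefEq.respectTransparency.types false

variable {X S : Scheme.{u}}

theorem isHQuasiProjective_of_isPullback {X' S' : Scheme.{u}} {f : X ⟶ S} (hf : RelProj.IsHQuasiProjective f)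
    {a : X' ⟶ X} {b : X' ⟶ S'} {g : S' ⟶ S} (h : IsPullback a b f g) : RelProj.IsHQuasiProjective b := by
  obtain ⟨n, i, hi, hiq, rfl⟩ := hf
  let G : CohB1.ProjSpaceOver n S' ⟶ CohB1.ProjSpaceOver n S :=
    (isPullback_fstP n (S := S)).lift (fstP n S') (CohB1.ProjSpaceOver.toBase n S' ≫ g) (by
      rw [Category.assoc, (isPullback_fstP n (S := S')).w]
      congr 1
      exact specULiftZIsTerminal.hom_ext _ _)
  have hG : IsPullback G (CohB1.ProjSpaceOver.toBase n S') (CohB1.ProjSpaceOver.toBase n S) g := by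
    refine IsPullback.of_right ?_ ((isPullback_fstP n (S := S)).lift_snd _ _ _) (isPullback_fstP n)
    rw [(isPullback_fstP n (S := S)).lift_fst,
      show g ≫ specULiftZIsTerminal.from S = specULiftZIsTerminal.from S' from specULiftZIsTerminal.hom_ext _ _]
    exact isPullback_fstP n
  let t : X' ⟶ CohB1.ProjSpaceOver n S' :=
    hG.lift (a ≫ i) b (by rw [Category.assoc]; exact h.w)
  have ht : IsPullback a t i G := by
    refine IsPullback.of_bot ?_ (hG.lift_fst _ _ _).symm hG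
    rw [hG.lift_snd]
    exact h
  exact ⟨n, t, MorphismProperty.of_isPullback ht hi, MorphismProperty.of_isPullback ht hiq, hG.lift_snd _ _ _⟩

theorem isRelVeryAmplePn_restrict_pow [IsAffine S] (f : X ⟶ S) [LocallyOfFiniteType f] [QuasiCompact f]
    [IsSeparated f] {L : X.Modules} (h : CohB1.IsAmple L) :
    ∃ n₀ : ℕ, ∀ n, n₀ ≤ n → RelAmple.IsRelVeryAmplePn f (CohB1.tensorPow L n) :=
  Groth.Agent.ProjMorph.eventually_veryAmplePn_pow f h

open Groth.Agent.AmpleLib Groth.Agent.Props.GenLocus in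
theorem ampleOn_of_tensorPow {L : X.Modules} (hL : PicF.IsInvertible L) {n : ℕ} (hn : 0 < n) {O : X.Opens}
    (h : AmpleOn (CohB1.tensorPow L n) O) : AmpleOn L O := by
  refine ⟨h.1, fun x hx ↦ ?_⟩
  obtain ⟨m, σ, hxσ, haff⟩ := h.2 x hx
  obtain ⟨φ, -⟩ := exists_iso_tensorPow_mul hL n (m + 1)
  obtain ⟨j, hj⟩ : ∃ j, n * (m + 1) = j + 1 := ⟨n * (m + 1) - 1,
    (Nat.succ_pred_eq_of_pos (Nat.mul_pos hn m.succ_pos)).symm⟩
  refine ⟨j, hj ▸ φ.hom.app _ σ, ?_⟩
  have e : locus (φ.hom.app _ σ) = locus σ := locus_app_iso φ σ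
  generalize φ.hom.app _ σ = τ at e ⊢
  generalize n * (m + 1) = N at hj τ
  subst hj
  rw [e]
  exact ⟨hxσ, haff⟩

/-- Over an affine open of the base a quasi-projective morphism has very ample powers. -/
theorem exists_pow_veryAmplePn (f : X ⟶ S) [LocallyOfFiniteType f] [QuasiCompact f] {L : X.Modules}
    (hL : RelAmple.IsRelAmple f L) {U : S.Opens} (hU : IsAffineOpen U) :
    ∃ n₀ : ℕ, ∀ n, n₀ ≤ n → RelAmple.IsRelVeryAmplePn (f ∣_ U) ((CohB1.tensorPow L n).restrict (f ⁻¹ᵁ U).ι) := by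
  have : IsSeparated f := Groth.Agent.S9691.result f L hL
  have : IsAffine (U : Scheme.{u}) := hU
  have hamp : CohB1.IsAmple (L.restrict (f ⁻¹ᵁ U).ι) := hL.2 ⟨U, hU⟩
  obtain ⟨n₀, hn₀⟩ := isRelVeryAmplePn_restrict_pow (f ∣_ U) hamp
  refine ⟨n₀, fun n hn => ProjMorph.isRelVeryAmplePn_of_iso ?_ (hn₀ n hn)⟩
  exact AmpleLib.tensorPowIso ((Scheme.Modules.restrictFunctorIsoPullback (f ⁻¹ᵁ U).ι).app L) n ≪≫
    (AmpleLib.exists_iso_pullback_tensorPow (f ⁻¹ᵁ U).ι (AmpleLib.isInvertible_of_isRelAmple hL) n).some.symm ≪≫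
      ((Scheme.Modules.restrictFunctorIsoPullback (f ⁻¹ᵁ U).ι).app _).symm

theorem isHQuasiProjective_restrict {f : X ⟶ S} (hf : RelProj.IsQuasiProjective f) {U : S.Opens}
    (hU : IsAffineOpen U) : RelProj.IsHQuasiProjective (f ∣_ U) := by
  obtain ⟨h1, h2, L, hL⟩ := hf
  have := h1
  have := h2
  obtain ⟨n₀, hn⟩ := exists_pow_veryAmplePn f hL hU
  obtain ⟨n, i, hi, hif, -⟩ := hn n₀ le_rfl
  have hif' : i ≫ CohB1.ProjSpaceOver.toBase n _ = f ∣_ U := hif
  have := Groth.Agent.ProjProper.Basic.isProper_toBase n (U : Scheme.{u})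
  refine ⟨n, i, hi, ?_, hif'⟩
  have : QuasiCompact (i ≫ CohB1.ProjSpaceOver.toBase n _) := by rw [hif']; infer_instance
  exact QuasiCompact.of_comp i (CohB1.ProjSpaceOver.toBase n _)

theorem isQuasiProjective_of_isHQuasiProjective {f : X ⟶ S} (hf : RelProj.IsHQuasiProjective f) :
    RelProj.IsQuasiProjective f := by
  obtain ⟨n, i, hi, hiq, rfl⟩ := hf
  have := Groth.Agent.ProjProper.Basic.isProper_toBase n S
  exact isQuasiProjective_of_immersion (i ≫ CohB1.ProjSpaceOver.toBase n S) n i rfl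

theorem locally_qproj_iff (f : X ⟶ S) :
    (∀ s : S, ∃ U : S.Opens, s ∈ U ∧ RelProj.IsQuasiProjective (f ∣_ U)) ↔
      (∀ s : S, ∃ U : S.Opens, s ∈ U ∧ RelProj.IsHQuasiProjective (f ∣_ U)) := by
  constructor
  · intro h s
    obtain ⟨U, hs, hU⟩ := h s
    obtain ⟨_, ⟨V, hV, rfl⟩, hsV, hVU⟩ := S.isBasis_affineOpens.exists_subset_of_mem_open hs U.isOpen
    have hVU' : V ≤ U := fun x hx => hVU hx
    have e : U.ι ''ᵁ (U.ι ⁻¹ᵁ V) = V := by
      rw [Scheme.Hom.image_preimage_eq_opensRange_inf, Scheme.Opens.opensRange_ι, inf_eq_right.2 hVU']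
    have haff : IsAffineOpen (U.ι ⁻¹ᵁ V) :=
      IsAffineOpen.preimage_of_isOpenImmersion hV U.ι (by rwa [Scheme.Opens.opensRange_ι])
    refine ⟨V, hsV, ?_⟩
    have key : ∀ W : S.Opens, W = V → RelProj.IsHQuasiProjective (f ∣_ W) → RelProj.IsHQuasiProjective (f ∣_ V) := by
      rintro W rfl hW; exact hW
    refine key _ e ?_
    let E := morphismRestrictRestrict f U (U.ι ⁻¹ᵁ V)
    exact isHQuasiProjective_of_isPullback (isHQuasiProjective_restrict hU haff)
      (IsPullback.of_horiz_isIso ⟨E.inv.w⟩ :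
        IsPullback E.inv.left (f ∣_ (U.ι ''ᵁ (U.ι ⁻¹ᵁ V))) ((f ∣_ U) ∣_ (U.ι ⁻¹ᵁ V)) E.inv.right)
  · intro h s
    obtain ⟨U, hs, hU⟩ := h s
    exact ⟨U, hs, isQuasiProjective_of_isHQuasiProjective hU⟩

theorem relAmple_iff_locally_veryAmplePn (f : X ⟶ S) [LocallyOfFiniteType f] [QuasiCompact f] (L : X.Modules)
    (hLinv : PicF.IsInvertible L) :
    RelAmple.IsRelAmple f L ↔
      ∃ (ι : Type u) (V : ι → S.Opens), (⨆ j, V j) = ⊤ ∧
        ∀ j, ∃ d : ℕ, 0 < d ∧
          RelAmple.IsRelVeryAmplePn (f ∣_ V j) ((CohB1.tensorPow L d).restrict (f ⁻¹ᵁ V j).ι) := by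
  constructor
  · intro hL
    refine ⟨S.affineOpens, fun V => V.1, iSup_affineOpens_eq_top S, fun V => ?_⟩
    obtain ⟨n₀, hn₀⟩ := exists_pow_veryAmplePn f hL V.2
    exact ⟨n₀ + 1, Nat.succ_pos _, hn₀ _ (Nat.le_succ _)⟩
  · rintro ⟨ι, V, hV, h⟩
    choose d hd hva using h
    refine AmpleLib.isRelAmple_of_cover f (ι := {W : Σ j : ι, S.affineOpens // W.2.1 ≤ V W.1})
      (fun W => W.1.2.1) ?_ hLinv fun W => ?_
    · intro x _
      obtain ⟨j, hj⟩ := Opens.mem_iSup.1 (hV.ge (Set.mem_univ x))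
      obtain ⟨_, ⟨W, hW, rfl⟩, hxW, hWV⟩ := S.isBasis_affineOpens.exists_subset_of_mem_open hj (V j).isOpen
      exact Opens.mem_iSup.2 ⟨⟨⟨j, ⟨W, hW⟩⟩, hWV⟩, hxW⟩
    · obtain ⟨⟨j, W, hW⟩, hWV⟩ := W
      obtain ⟨n, i, hi, hif, ⟨e⟩⟩ := hva j
      have := Groth.Agent.ProjProper.Basic.isProper_toBase n (V j : Scheme.{u})
      let g := f ∣_ V j
      have hif' : i ≫ CohB1.ProjSpaceOver.toBase n _ = g := hif
      have : QuasiCompact i := by
        have : QuasiCompact (i ≫ CohB1.ProjSpaceOver.toBase n _) := by rw [hif']; infer_instance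
        exact QuasiCompact.of_comp i (CohB1.ProjSpaceOver.toBase n _)
      have hLd : PicF.IsInvertible (CohB1.tensorPow L (d j)) := AmpleLib.isInvertible_tensorPow hLinv _
      obtain ⟨-, hinv', hamp⟩ := AmpleLib.isRelAmple_iff.mp (isRelAmple_twistOver n (V j : Scheme.{u}))
      have haff : IsAffineOpen ((V j).ι ⁻¹ᵁ W) :=
        IsAffineOpen.preimage_of_isOpenImmersion hW (V j).ι (by rwa [Scheme.Opens.opensRange_ι])
      have h1 : AmpleLib.AmpleOn ((Scheme.Modules.pullback i).obj (Twist.twistOver n _ 1)) (g ⁻¹ᵁ ((V j).ι ⁻¹ᵁ W)) := by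
        have := AmpleLib.ampleOn_pullback_of_isInducing hinv' i le_rfl (hamp ⟨_, haff⟩)
          (by rw [← Scheme.Hom.comp_preimage, hif']; exact g.isCompact_preimage haff.isCompact)
          i.isEmbedding.isInducing
        rwa [← Scheme.Hom.comp_preimage, hif'] at this
      have h2 := (AmpleLib.isAmple_restrict_iff (PicCl.isInvertible_pullback i hinv') _).2 h1
      have h3 : CohB1.IsAmple (((CohB1.tensorPow L (d j)).restrict (f ⁻¹ᵁ V j).ι).restrict
          (g ⁻¹ᵁ ((V j).ι ⁻¹ᵁ W)).ι) :=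
        AmpleLib.isAmple_of_iso ((Scheme.Modules.restrictFunctor _).mapIso e.symm) h2
      rw [AmpleLib.isAmple_restrict_restrict_iff hLd] at h3
      have hset : (f ⁻¹ᵁ V j).ι ''ᵁ (g ⁻¹ᵁ ((V j).ι ⁻¹ᵁ W)) = f ⁻¹ᵁ W := by
        rw [← Scheme.Hom.comp_preimage, morphismRestrict_ι, Scheme.Hom.comp_preimage,
          Scheme.Hom.image_preimage_eq_opensRange_inf, Scheme.Opens.opensRange_ι]
        exact inf_eq_right.2 (f.preimage_mono hWV)
      rw [hset] at h3
      exact ampleOn_of_tensorPow hLinv (hd j) h3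

end Groth.Agent.ProjMor
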