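import Groth.Agent.ProjMor.QProj
import Groth.Agent.Chow.Base
import Groth.Agent.S9693

/-! Projective morphisms are H-projective over affine opens of the base. -/

noncomputable section

universe u

open CategoryTheory CategoryTheory.Limits AlgebraicGeometry TopologicalSpace Opposite
open scoped HomogeneousIdeal
open RelProj Groth.Agent.RelProjLib

namespace Groth.Agent.ProjMor

set_option backward.isDefEq.respectTransparency.types false

variable {X Y S T : Scheme.{u}}

theorem isHProjective_iso_comp {f : X ⟶ S} (hf : RelProj.IsHProjective f) {X' : Scheme.{u}} (e : X' ⟶ X)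
    [IsIso e] : RelProj.IsHProjective (e ≫ f) := by
  obtain ⟨n, i, hi, rfl⟩ := hf
  exact ⟨n, e ≫ i, inferInstance, Category.assoc _ _ _⟩

theorem isHProjective_of_isPullback {P X' S' : Scheme.{u}} {f : X ⟶ S} (hf : RelProj.IsHProjective f)
    {a : X' ⟶ X} {b : X' ⟶ S'} {g : S' ⟶ S} (h : IsPullback a b f g) : RelProj.IsHProjective b := by
  rw [← h.isoPullback_hom_snd]
  exact isHProjective_iso_comp (Groth.Agent.S9693.result f hf g) h.isoPullback.hom

/-- `Proj` of a ring generated in degree one, with degree-one part finite over `R`, is H-projective over `R`. -/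
theorem isHProjective_proj {A σ R : Type u} [CommRing A] [SetLike σ A] [AddSubgroupClass σ A] [CommRing R]
    (𝒜 : ℕ → σ) [GradedRing 𝒜] (ρ : R →+* 𝒜 0)
    (hgen : Subring.closure ((𝒜 0 : Set A) ∪ (𝒜 1 : Set A)) = ⊤) (T : Finset A) (hT : (T : Set A) ⊆ (𝒜 1 : Set A))
    (hfin : ∀ x ∈ 𝒜 1, ∃ c : A → R, x = ∑ t ∈ T, (ρ (c t) : A) * t) :
    RelProj.IsHProjective (Proj.toSpecZero 𝒜 ≫ Spec.map (CommRingCat.ofHom ρ)) := by
  classical
  let n := T.card
  let v : Fin (n + 1) → A := fun i => if h : (i : ℕ) < n then (T.equivFin.symm ⟨i, h⟩ : A) else 0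
  have hv : ∀ i, v i ∈ 𝒜 1 := fun i => by
    simp only [v]
    split
    · exact hT (Subtype.coe_prop _)
    · exact zero_mem _
  let ρA : R →+* A := (SetLike.GradeZero.subring 𝒜).subtype.comp ρ
  let φ : MvPolynomial (Fin (n + 1)) R →+* A := MvPolynomial.eval₂Hom ρA v
  have hφmem : ∀ {d : ℕ} {p : MvPolynomial (Fin (n + 1)) R}, p ∈ CohB1.polyGrading n R d → φ p ∈ 𝒜 d := by
    intro d p hp
    rw [show φ p = ∑ m ∈ p.support, ρA (p.coeff m) * ∏ i, v i ^ m i from MvPolynomial.eval₂_eq' ρA v p]
    refine sum_mem fun m hm => ?_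
    have h1 : ρA (p.coeff m) ∈ 𝒜 0 := (ρ (p.coeff m)).2
    have h2 : ∏ i, v i ^ m i ∈ 𝒜 (∑ i, m i) := by
      refine SetLike.prod_mem_graded _ _ _ fun i _ => ?_
      simpa using SetLike.pow_mem_graded (m i) (hv i)
    have hd : ∑ i, m i = d := by
      have := hp (MvPolynomial.mem_support_iff.mp hm)
      rw [Finsupp.weight_apply] at this
      simpa [Finsupp.sum_fintype] using this
    simpa [hd] using SetLike.mul_mem_graded h1 h2
  let ψ : CohB1.polyGrading n R →+*ᵍ 𝒜 := { φ with map_mem := hφmem }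
  have hX : ∀ t ∈ T, ∃ i, φ (MvPolynomial.X i) = t := fun t ht => by
    refine ⟨⟨T.equivFin ⟨t, ht⟩, Nat.lt_succ_of_lt (T.equivFin ⟨t, ht⟩).2⟩, ?_⟩
    simp [φ, v, n]
  have hone : ∀ x ∈ 𝒜 1, x ∈ φ.range := fun x hx => by
    obtain ⟨c, rfl⟩ := hfin x hx
    refine sum_mem fun t ht => mul_mem ⟨MvPolynomial.C (c t), by simp [φ, ρA]; rfl⟩ ?_
    obtain ⟨i, hi⟩ := hX t ht
    exact ⟨_, hi⟩
  have hsurj : ∀ k, 1 ≤ k → ∀ y ∈ 𝒜 k, ∃ p ∈ CohB1.polyGrading n R k, ψ p = y := by
    let L : AddSubgroup A :=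
      { carrier := {y | ∀ k, 1 ≤ k → (DirectSum.decompose 𝒜 y k : A) ∈ φ.range}
        zero_mem' := fun k _ => by simp
        add_mem' := fun {a b} ha hb k hk => by
          rw [DirectSum.decompose_add]; exact add_mem (ha k hk) (hb k hk)
        neg_mem' := fun {a} ha k hk => by
          rw [DirectSum.decompose_neg]; exact neg_mem (ha k hk) }
    have key : ∀ y ∈ Submonoid.closure ((𝒜 0 : Set A) ∪ (𝒜 1 : Set A)),
        ∃ k, y ∈ 𝒜 k ∧ (1 ≤ k → y ∈ φ.range) := by
      have h01 : ∀ a ∈ 𝒜 0, ∀ b, ∀ k, b ∈ 𝒜 k → 1 ≤ k → b ∈ φ.range → a * b ∈ φ.range := by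
        intro a ha b k hb hk hbr
        obtain ⟨p, rfl⟩ := hbr
        let M : Ideal (MvPolynomial (Fin (n + 1)) R) := Ideal.span (Set.range MvPolynomial.X)
        have hmul : ∀ q ∈ M, a * φ q ∈ φ.range := by
          intro q hq
          induction hq using Submodule.span_induction with
          | mem q hq =>
            obtain ⟨i, rfl⟩ := hq
            refine hone _ ?_
            simpa [φ] using SetLike.mul_mem_graded ha (hv i)
          | zero => simp
          | add q q' _ _ h h' => rw [map_add, mul_add]; exact add_mem h h'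
          | smul r q _ h =>
            rw [smul_eq_mul, map_mul, mul_left_comm]
            exact mul_mem ⟨r, rfl⟩ h
        have hp : p - MvPolynomial.C (MvPolynomial.constantCoeff p) ∈ M := by
          rw [show M = Ideal.span (MvPolynomial.X '' Set.univ) from by rw [Set.image_univ],
            MvPolynomial.mem_ideal_span_X_image]
          intro m hm
          by_contra h
          push Not at h
          have : m = 0 := Finsupp.ext fun i => h i trivial
          subst this
          simp [MvPolynomial.constantCoeff_eq] at hm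
        have h0 : a * φ p = a * φ (p - MvPolynomial.C (MvPolynomial.constantCoeff p)) := by
          have hc : φ (MvPolynomial.C (MvPolynomial.constantCoeff p)) = 0 := by
            have hc0 : φ (MvPolynomial.C (MvPolynomial.constantCoeff p)) ∈ 𝒜 0 :=
              hφmem (MvPolynomial.isHomogeneous_C _ _)
            have e1 : (DirectSum.decompose 𝒜 (φ p) 0 : A) = 0 :=
              DirectSum.decompose_of_mem_ne 𝒜 hb (by omega)
            have e2 : (DirectSum.decompose 𝒜 (φ (p - MvPolynomial.C (MvPolynomial.constantCoeff p))) 0 : A) = 0 := by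
              have : φ (p - MvPolynomial.C (MvPolynomial.constantCoeff p)) ∈ (HomogeneousIdeal.irrelevant 𝒜).toIdeal := by
                suffices hle : M ≤ (HomogeneousIdeal.irrelevant 𝒜).toIdeal.comap φ from hle hp
                rw [Ideal.span_le]
                rintro _ ⟨i, rfl⟩
                show φ (MvPolynomial.X i) ∈ (HomogeneousIdeal.irrelevant 𝒜).toIdeal
                have : φ (MvPolynomial.X i) = v i := by simp [φ]
                rw [this]
                exact HomogeneousIdeal.mem_irrelevant_of_mem _ one_pos (hv i)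
              exact (HomogeneousIdeal.mem_irrelevant_iff _ _).1 this
            rw [map_sub, DirectSum.decompose_sub] at e2
            simpa [e1, DirectSum.decompose_of_mem_same 𝒜 hc0] using e2
          rw [map_sub, hc, sub_zero]
        rw [h0]
        exact hmul _ hp
      intro y hy
      induction hy using Submonoid.closure_induction with
      | mem a ha =>
        rcases ha with ha | ha
        · exact ⟨0, ha, fun h => absurd h (by omega)⟩
        · exact ⟨1, ha, fun _ => hone a ha⟩
      | one => exact ⟨0, SetLike.one_mem_graded 𝒜, fun h => absurd h (by omega)⟩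
      | mul a b _ _ iha ihb =>
        obtain ⟨i, hai, ha⟩ := iha
        obtain ⟨j, hbj, hb⟩ := ihb
        refine ⟨i + j, SetLike.mul_mem_graded hai hbj, fun h => ?_⟩
        rcases Nat.eq_zero_or_pos i with rfl | hi
        · exact h01 a hai b j hbj (by omega) (hb (by omega))
        · rcases Nat.eq_zero_or_pos j with rfl | hj
          · rw [mul_comm]; exact h01 b hbj a i hai hi (ha hi)
          · exact mul_mem (ha hi) (hb hj)
    intro k hk y hy
    have hyL : y ∈ L := by
      have : y ∈ Subring.closure ((𝒜 0 : Set A) ∪ (𝒜 1 : Set A)) := by rw [hgen]; trivial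
      rw [Subring.mem_closure_iff] at this
      refine (AddSubgroup.closure_le L).2 ?_ this
      intro z hz m hm
      obtain ⟨l, hl, hlr⟩ := key z hz
      rcases eq_or_ne l m with rfl | hne
      · rw [DirectSum.decompose_of_mem_same 𝒜 hl]; exact hlr hm
      · rw [DirectSum.decompose_of_mem_ne 𝒜 hl hne]; exact zero_mem _
    have hr := hyL k hk
    rw [DirectSum.decompose_of_mem_same 𝒜 hy] at hr
    obtain ⟨p, hp⟩ := hr
    refine ⟨(DirectSum.decompose (CohB1.polyGrading n R) p k : MvPolynomial (Fin (n + 1)) R), SetLike.coe_mem _, ?_⟩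
    rw [GradedRingHom.map_directSumDecompose]
    show (DirectSum.decompose 𝒜 (φ p) k : A) = y
    rw [hp, DirectSum.decompose_of_mem_same 𝒜 hy]
  have hirr : 𝒜₊ ≤ (CohB1.polyGrading n R)₊.map ψ := by
    rw [HomogeneousIdeal.irrelevant_le]
    intro i hi b hb
    obtain ⟨p, hp, rfl⟩ := hsurj i hi b hb
    exact Ideal.mem_map_of_mem _ (HomogeneousIdeal.mem_irrelevant_of_mem _ hi hp)
  let k : Proj 𝒜 ⟶ CohB1.ProjSpace n R := Proj.map ψ hirr
  have hk : IsClosedImmersion k :=
    RelProjLib.map_property ψ hirr @IsClosedImmersion fun i hi a ha =>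
      IsClosedImmersion.spec_of_surjective _ (away_map_surjective_of_eventually ψ hsurj hi ha)
  obtain ⟨e, he⟩ := Groth.Agent.ProperFin.exists_iso_projSpaceOver n R
  refine ⟨n, k ≫ e.inv, inferInstance, ?_⟩
  rw [Category.assoc, ← he, Iso.inv_hom_id_assoc]
  show Proj.map ψ hirr ≫ Proj.toSpecZero (CohB1.polyGrading n R) ≫ _ = _
  rw [← Category.assoc, RelProjLib.map_toSpecZero, Category.assoc, ← Spec.map_comp]
  congr 2
  refine CommRingCat.hom_ext (RingHom.ext fun r => Subtype.ext ?_)
  show φ (MvPolynomial.C r) = _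
  simp [φ, ρA]; rfl

/-- A projective morphism is H-projective over every affine open of the base. -/
theorem isHProjective_restrict {f : X ⟶ S} (hf : RelProj.IsProjective f) {U : S.Opens} (hU : IsAffineOpen U) :
    RelProj.IsHProjective (f ∣_ U) := by
  obtain ⟨𝒮, P, p, chart, e, hgen, hft, hP, rfl⟩ := hf
  obtain ⟨T, hT, hfin⟩ := hft U hU
  have hch : RelProj.IsHProjective (Proj.toSpecZero (𝒮.deg U hU) ≫ Spec.map (𝒮.strZero U hU)) :=
    isHProjective_proj (𝒮.deg U hU) (𝒮.strZero U hU).hom (hgen U hU) T hT hfin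
  have hp : IsPullback (chart U hU).hom (p ∣_ U)
      (Proj.toSpecZero (𝒮.deg U hU) ≫ Spec.map (𝒮.strZero U hU)) hU.isoSpec.hom := by
    refine IsPullback.of_horiz_isIso ⟨?_⟩
    rw [← cancel_mono hU.fromSpec]
    simp only [Category.assoc, IsAffineOpen.isoSpec_hom_fromSpec, morphismRestrict_ι]
    exact hP.chart_over U hU
  have := isHProjective_iso_comp (isHProjective_of_isPullback (P := P) hch hp) (e.hom ∣_ (p ⁻¹ᵁ U))
  rwa [← morphismRestrict_comp] at this

theorem isProper_of_isHProjective {f : X ⟶ S} (hf : RelProj.IsHProjective f) : IsProper f := by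
  obtain ⟨n, i, hi, rfl⟩ := hf
  have := Groth.Agent.ProjProper.Basic.isProper_toBase n S
  infer_instance

/-- Projective morphisms are proper. -/
theorem isProper_of_isProjective {f : X ⟶ S} (hf : RelProj.IsProjective f) : IsProper f :=
  IsZariskiLocalAtTarget.of_iSup_eq_top (P := @IsProper) (fun U : S.affineOpens => (U : S.Opens))
    (iSup_affineOpens_eq_top S) fun U => isProper_of_isHProjective (isHProjective_restrict hf U.2)

/-- Composites of H-projective morphisms are H-projective. -/
theorem isHProjective_comp {f : X ⟶ Y} {g : Y ⟶ S} (hf : RelProj.IsHProjective f)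
    (hg : RelProj.IsHProjective g) : RelProj.IsHProjective (f ≫ g) := by
  obtain ⟨n, i, hi, rfl⟩ := hf
  obtain ⟨m, j, hj, rfl⟩ := hg
  obtain ⟨φ, hφ, hφb⟩ := Chow.exists_segre S n m
  let g' := j ≫ CohB1.ProjSpaceOver.toBase m S
  have h : IsPullback (pullback.fst (CohB1.ProjSpaceOver.toBase n S) g' ≫ fstP n S)
      (pullback.snd (CohB1.ProjSpaceOver.toBase n S) g') (CohB1.ProjSpace.toSpec n (ULift.{u} ℤ))
      (specULiftZIsTerminal.from Y) := by
    have h0 := (IsPullback.of_hasPullback (CohB1.ProjSpaceOver.toBase n S) g').paste_horiz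
      (isPullback_fstP n (S := S))
    rwa [specULiftZIsTerminal.hom_ext (g' ≫ specULiftZIsTerminal.from S) (specULiftZIsTerminal.from Y)] at h0
  let e : pullback (CohB1.ProjSpaceOver.toBase n S) g' ≅ CohB1.ProjSpaceOver n Y := h.isoPullback
  have he : e.hom ≫ CohB1.ProjSpaceOver.toBase n Y = pullback.snd (CohB1.ProjSpaceOver.toBase n S) g' :=
    h.isoPullback_hom_snd
  let b : pullback (CohB1.ProjSpaceOver.toBase n S) g' ⟶
      pullback (CohB1.ProjSpaceOver.toBase n S) (CohB1.ProjSpaceOver.toBase m S) :=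
    pullback.map _ _ _ _ (𝟙 _) j (𝟙 _) (by simp) (by simp [g'])
  have : MorphismProperty.IsStableUnderComposition @IsClosedImmersion.{u} := Chow.isStableUnderComposition_closed
  have hb : IsClosedImmersion b :=
    MorphismProperty.pullbackMap (P := @IsClosedImmersion) inferInstance hj (Category.id_comp _).symm rfl
  refine ⟨n * m + n + m, i ≫ e.inv ≫ b ≫ φ, inferInstance, ?_⟩
  simp only [Category.assoc, hφb]
  congr 1
  rw [Iso.inv_comp_eq, ← Category.assoc e.hom, he, ← Category.assoc b]
  rw [show b ≫ pullback.fst _ _ = pullback.fst (CohB1.ProjSpaceOver.toBase n S) g' from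
    (pullback.lift_fst _ _ _).trans (Category.comp_id _)]
  exact pullback.condition

/-- Locally projective = locally H-projective. -/
theorem isLocallyProjective_iff (f : X ⟶ S) :
    RelProj.IsLocallyProjective f ↔ ∀ s : S, ∃ U : S.Opens, s ∈ U ∧ RelProj.IsHProjective (f ∣_ U) := by
  constructor
  · intro h s
    obtain ⟨U, hs, hU⟩ := h s
    obtain ⟨_, ⟨V, hV, rfl⟩, hsV, hVU⟩ := S.isBasis_affineOpens.exists_subset_of_mem_open hs U.isOpen
    have hVU' : V ≤ U := fun x hx => hVU hx
    have e : U.ι ''ᵁ (U.ι ⁻¹ᵁ V) = V := by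
      rw [Scheme.Hom.image_preimage_eq_opensRange_inf, Scheme.Opens.opensRange_ι, inf_eq_right.2 hVU']
    have haff : IsAffineOpen (U.ι ⁻¹ᵁ V) :=
      (IsAffineOpen.preimage_of_isOpenImmersion hV U.ι (by rwa [Scheme.Opens.opensRange_ι]))
    have h1 := isHProjective_restrict hU haff
    refine ⟨V, hsV, ?_⟩
    have key : ∀ W : S.Opens, W = V → RelProj.IsHProjective (f ∣_ W) → RelProj.IsHProjective (f ∣_ V) := by
      rintro W rfl hW; exact hW
    refine key _ e ?_
    let E := morphismRestrictRestrict f U (U.ι ⁻¹ᵁ V)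
    exact isHProjective_of_isPullback (P := X) h1
      (IsPullback.of_horiz_isIso ⟨E.inv.w⟩ :
        IsPullback E.inv.left (f ∣_ (U.ι ''ᵁ (U.ι ⁻¹ᵁ V))) ((f ∣_ U) ∣_ (U.ι ⁻¹ᵁ V)) E.inv.right)
  · intro h s
    obtain ⟨U, hs, hU⟩ := h s
    exact ⟨U, hs, isProjective_of_isHProjective _ hU⟩

/-- Locally projective morphisms are stable under base change. -/
theorem isLocallyProjective_baseChange {f : X ⟶ S} (hf : RelProj.IsLocallyProjective f) (g : T ⟶ S) :
    RelProj.IsLocallyProjective (pullback.snd f g) := by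
  rw [isLocallyProjective_iff] at hf ⊢
  intro t
  obtain ⟨U, hs, hU⟩ := hf (g t)
  refine ⟨g ⁻¹ᵁ U, hs, ?_⟩
  have h1 := (isPullback_morphismRestrict (pullback.snd f g) (g ⁻¹ᵁ U)).flip.paste_horiz
    (IsPullback.of_hasPullback f g)
  have hw : Set.range ((pullback.snd f g ⁻¹ᵁ (g ⁻¹ᵁ U)).ι ≫ pullback.fst f g) ⊆ Set.range (f ⁻¹ᵁ U).ι := by
    rintro _ ⟨x, rfl⟩
    rw [Scheme.Opens.range_ι]
    show f (pullback.fst f g ((pullback.snd f g ⁻¹ᵁ (g ⁻¹ᵁ U)).ι x)) ∈ U
    rw [← Scheme.Hom.comp_apply, pullback.condition, Scheme.Hom.comp_apply]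
    exact x.2
  let l := IsOpenImmersion.lift (f ⁻¹ᵁ U).ι _ hw
  have hl : l ≫ (f ⁻¹ᵁ U).ι = (pullback.snd f g ⁻¹ᵁ (g ⁻¹ᵁ U)).ι ≫ pullback.fst f g :=
    IsOpenImmersion.lift_fac _ _ _
  have hsq : l ≫ (f ∣_ U) = (pullback.snd f g ∣_ (g ⁻¹ᵁ U)) ≫ (g ∣_ U) := by
    rw [← cancel_mono U.ι, Category.assoc, Category.assoc, morphismRestrict_ι, morphismRestrict_ι,
      reassoc_of% hl, pullback.condition, ← morphismRestrict_ι_assoc]
  refine isHProjective_of_isPullback (P := X) hU (IsPullback.of_right ?_ hsq (isPullback_morphismRestrict f U).flip)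
  rw [hl, morphismRestrict_ι]
  exact h1

end Groth.Agent.ProjMor
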