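import Mathlib.AlgebraicGeometry.IdealSheaf.Functorial
import Mathlib.AlgebraicGeometry.Morphisms.Affine

/-! The ideal of a closed subscheme read on affine charts. -/

noncomputable section

universe u

open CategoryTheory CategoryTheory.Limits AlgebraicGeometry

namespace Groth.Agent.ProjMor

variable {P Z Z' : Scheme.{u}}

/-- The ideal of `i` read on the chart `c`. -/
def kerAt (i : Z ⟶ P) {A : CommRingCat.{u}} (c : Spec A ⟶ P) : Ideal A :=
  ((i.ker.comap c).ideal ⟨⊤, isAffineOpen_top _⟩).comap (Scheme.ΓSpecIso A).inv.hom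

theorem comap_ΓSpecIso_inv_eq_map (A : CommRingCat.{u}) (I : Ideal Γ(Spec A, ⊤)) :
    I.comap (Scheme.ΓSpecIso A).inv.hom = I.map (Scheme.ΓSpecIso A).hom.hom := by
  exact (Ideal.map_symm (Scheme.ΓSpecIso A).symm.commRingCatIsoToRingEquiv (I := I)).symm

theorem ideal_comap_specMap {A B : CommRingCat.{u}} (ρ : A ⟶ B) (J : (Spec A).IdealSheafData) :
    (J.comap (Spec.map ρ)).ideal ⟨⊤, isAffineOpen_top _⟩ =
      (J.ideal ⟨⊤, isAffineOpen_top _⟩).map (Spec.map ρ).appTop.hom := by
  refine eq_of_forall_ge_iff fun X => ?_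
  have e : ∀ K : (Spec B).IdealSheafData, K.ideal ⟨⊤, isAffineOpen_top _⟩ ≤ X ↔
      K ≤ Scheme.IdealSheafData.ofIdealTop X := fun K => by
    constructor
    · intro h
      exact Scheme.IdealSheafData.le_of_isAffine (h.trans (by simp))
    · intro h
      exact (h _).trans (by simp)
  rw [e, ← Scheme.IdealSheafData.le_map_iff_comap_le, Ideal.map_le_iff_le_comap]
  constructor
  · intro h
    refine (h ⟨⊤, isAffineOpen_top _⟩).trans (le_of_eq ?_)
    rw [Scheme.IdealSheafData.ideal_map_of_isAffineHom]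
    simp
    rfl
  · intro h
    refine Scheme.IdealSheafData.le_of_isAffine (h.trans (le_of_eq ?_))
    rw [Scheme.IdealSheafData.ideal_map_of_isAffineHom]
    simp
    rfl

theorem kerAt_comp (i : Z ⟶ P) {A B : CommRingCat.{u}} (c : Spec A ⟶ P) (ρ : A ⟶ B) :
    kerAt i (Spec.map ρ ≫ c) = (kerAt i c).map ρ.hom := by
  rw [kerAt, kerAt, Scheme.IdealSheafData.comap_comp, ideal_comap_specMap, comap_ΓSpecIso_inv_eq_map,
    comap_ΓSpecIso_inv_eq_map, Ideal.map_map, Ideal.map_map]
  congr 1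
  rw [← CommRingCat.hom_comp, ← CommRingCat.hom_comp, Scheme.ΓSpecIso_naturality]

theorem kerAt_congr (i : Z ⟶ P) {A : CommRingCat.{u}} {c c' : Spec A ⟶ P} (h : c = c') :
    kerAt i c = kerAt i c' := h ▸ rfl

theorem kerAt_of_isPullback (i : Z ⟶ P) [IsClosedImmersion i] {A B : CommRingCat.{u}} (c : Spec A ⟶ P)
    (φ : A ⟶ B) (b : Spec B ⟶ Z) (h : IsPullback b (Spec.map φ) i c) :
    kerAt i c = RingHom.ker φ.hom := by
  rw [kerAt, ← Scheme.IdealSheafData.ker_fst_of_isClosedImmersion, ← h.flip.isoPullback_inv_fst,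
    Scheme.Hom.ker_comp_of_isIso, Scheme.ker_of_isAffine]
  simp only [Scheme.IdealSheafData.ofIdealTop_ideal]
  rw [show (homOfLE (le_top : (⊤ : (Spec A).Opens) ≤ ⊤)).op = 𝟙 _ from rfl, CategoryTheory.Functor.map_id]
  simp only [CommRingCat.hom_id, Ideal.map_id, RingHom.comap_ker, ← CommRingCat.hom_comp,
    ← Scheme.ΓSpecIso_inv_naturality]
  ext x
  simp only [RingHom.mem_ker, CommRingCat.hom_comp, RingHom.comp_apply]
  exact map_eq_zero_iff _ ((ConcreteCategory.bijective_of_isIso (Scheme.ΓSpecIso B).inv).1)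

/-- Closed subschemes with the same ideals on a covering family of affine charts have the same kernel. -/
theorem ker_eq_of_kerAt (i : Z ⟶ P) (i' : Z' ⟶ P) {J : Type*} {A : J → CommRingCat.{u}}
    (c : ∀ j, Spec (A j) ⟶ P) [∀ j, IsOpenImmersion (c j)]
    (hcov : ∀ x : P, ∃ j, x ∈ Set.range (c j)) (h : ∀ j, kerAt i (c j) = kerAt i' (c j)) :
    i.ker = i'.ker := by
  refine Scheme.IdealSheafData.ext_of_iSup_eq_top
    (fun j => ⟨c j ''ᵁ ⊤, (isAffineOpen_top _).image_of_isOpenImmersion (c j)⟩) ?_ fun j => ?_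
  · rw [eq_top_iff]
    intro x _
    obtain ⟨j, y, hy⟩ := hcov x
    exact TopologicalSpace.Opens.mem_iSup.2 ⟨j, y, trivial, hy⟩
  · have h1 := h j
    simp only [kerAt] at h1
    have h2 := Ideal.comap_injective_of_surjective _
      (ConcreteCategory.bijective_of_isIso (Scheme.ΓSpecIso (A j)).inv).2 h1
    rw [Scheme.IdealSheafData.ideal_comap_of_isOpenImmersion,
      Scheme.IdealSheafData.ideal_comap_of_isOpenImmersion] at h2
    exact Ideal.comap_injective_of_surjective _
      (ConcreteCategory.bijective_of_isIso ((c j).appIso ⊤).inv).2 h2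

end Groth.Agent.ProjMor
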