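import Groth.Prelude.Def_RelProj
import Groth.Agent.QCAlgLib.OfSite

/-! Quotient of a quasi-coherent graded algebra by homogeneous ideals given on the affine opens. -/

noncomputable section

universe u

open CategoryTheory CategoryTheory.Limits AlgebraicGeometry TopologicalSpace Opposite DirectSum
open RelProj

namespace Groth.Agent.ProjMor

set_option backward.isDefEq.respectTransparency.types false

open Scheme (AffineZariskiSite)

section push

variable {A B σ : Type u} [CommRing A] [CommRing B] [SetLike σ A] [AddSubgroupClass σ A] (𝒜 : ℕ → σ)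
  (π : A →+* B)

/-- The images of the pieces. -/
def pushGr (i : ℕ) : AddSubgroup B := (AddSubgroup.ofClass (𝒜 i)).map π.toAddMonoidHom

variable {𝒜 π}

theorem mem_pushGr {i : ℕ} {b : B} : b ∈ pushGr 𝒜 π i ↔ ∃ a ∈ 𝒜 i, π a = b := Iff.rfl

variable [GradedRing 𝒜]

theorem pushGr_isInternal (hs : Function.Surjective π) (hk : (RingHom.ker π).IsHomogeneous 𝒜) :
    DirectSum.IsInternal (pushGr 𝒜 π) := by
  classical
  let g : ∀ i, 𝒜 i →+ pushGr 𝒜 π i := fun i =>
    (π.toAddMonoidHom.comp (AddSubgroupClass.subtype (𝒜 i))).codRestrict (pushGr 𝒜 π i) fun a => ⟨a, a.2, rfl⟩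
  have hg : Function.Surjective (DirectSum.map g) := by
    rw [DirectSum.map_surjective]
    rintro i ⟨_, a, ha, rfl⟩
    exact ⟨⟨a, ha⟩, rfl⟩
  have hcomp : ∀ y, DirectSum.coeAddMonoidHom (pushGr 𝒜 π) (DirectSum.map g y) =
      π (DirectSum.coeAddMonoidHom 𝒜 y) := by
    intro y
    induction y using DirectSum.induction_on with
    | zero => simp
    | of i a =>
      rw [DirectSum.map_of, DirectSum.coeAddMonoidHom_of, DirectSum.coeAddMonoidHom_of]
      rfl
    | add a b ha hb => simp only [map_add, ha, hb]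
  constructor
  · rw [injective_iff_map_eq_zero]
    intro x hx
    obtain ⟨y, rfl⟩ := hg x
    rw [hcomp] at hx
    refine DFinsupp.ext fun i => ?_
    rw [DirectSum.map_apply]
    apply Subtype.ext
    have h2 := hk i (RingHom.mem_ker.2 hx)
    rw [show DirectSum.coeAddMonoidHom 𝒜 y = (decompose 𝒜).symm y from rfl, Equiv.apply_symm_apply] at h2
    exact h2
  · intro b
    obtain ⟨a, rfl⟩ := hs b
    refine ⟨DirectSum.map g (decompose 𝒜 a), ?_⟩
    rw [hcomp]
    exact congrArg π ((decompose 𝒜).symm_apply_apply a)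

/-- The grading of a quotient ring by a homogeneous ideal. -/
@[instance_reducible]
def pushGradedRing (hs : Function.Surjective π) (hk : (RingHom.ker π).IsHomogeneous 𝒜) :
    GradedRing (pushGr 𝒜 π) :=
  { (pushGr_isInternal hs hk).chooseDecomposition with
    one_mem := ⟨1, SetLike.one_mem_graded 𝒜, map_one π⟩
    mul_mem := by
      rintro i j _ _ ⟨a, ha, rfl⟩ ⟨b, hb, rfl⟩
      exact ⟨a * b, SetLike.mul_mem_graded ha hb, map_mul π a b⟩ }

end push

variable {S : Scheme.{u}} (𝒜 : QCGrAlg S)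

/-- Homogeneous ideals on the affine opens, compatible with restriction to basic opens. -/
structure IdealDatum where
  I : ∀ (U : S.Opens), IsAffineOpen U → Ideal (𝒜.presheaf.obj (op U))
  homogeneous : ∀ (U : S.Opens) (hU : IsAffineOpen U), (I U hU).IsHomogeneous (𝒜.deg U hU)
  res_mem : ∀ (U : S.Opens) (hU : IsAffineOpen U) (r : Γ(S, U)) (x : 𝒜.presheaf.obj (op U)),
    x ∈ I U hU → (𝒜.presheaf.map (homOfLE (S.basicOpen_le r)).op).hom x ∈ I (S.basicOpen r) (hU.basicOpen r)
  lift_mem : ∀ (U : S.Opens) (hU : IsAffineOpen U) (r : Γ(S, U)) (x : 𝒜.presheaf.obj (op U)),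
    (𝒜.presheaf.map (homOfLE (S.basicOpen_le r)).op).hom x ∈ I (S.basicOpen r) (hU.basicOpen r) →
      ∃ k : ℕ, (𝒜.str.app (op U)).hom r ^ k * x ∈ I U hU

variable {𝒜} (D : IdealDatum 𝒜)

theorem IdealDatum.res_le (V U : S.AffineZariskiSite) (h : V ≤ U) :
    D.I U.1 U.2 ≤ (D.I V.1 V.2).comap
      (𝒜.presheaf.map (homOfLE (AffineZariskiSite.toOpens_mono h)).op).hom := by
  obtain ⟨V, hV⟩ := V
  obtain ⟨r, hr⟩ := h
  change S.basicOpen r = V at hr
  subst hr
  exact fun x hx => D.res_mem U.1 U.2 r x hx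

/-- The quotient rings on the affine opens. -/
def IdealDatum.site : S.AffineZariskiSiteᵒᵖ ⥤ CommRingCat.{u} where
  obj U := CommRingCat.of (𝒜.presheaf.obj (op U.unop.1) ⧸ D.I U.unop.1 U.unop.2)
  map {U V} i := CommRingCat.ofHom (Ideal.quotientMap _
    (𝒜.presheaf.map (homOfLE (AffineZariskiSite.toOpens_mono i.unop.le)).op).hom (D.res_le V.unop U.unop i.unop.le))
  map_id U := by
    refine CommRingCat.hom_ext (Ideal.Quotient.ringHom_ext (RingHom.ext fun x => ?_))
    simp only [CommRingCat.hom_ofHom, RingHom.comp_apply, CommRingCat.hom_id, RingHom.id_apply]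
    rw [Ideal.quotientMap_mk]
    exact congrArg (Ideal.Quotient.mk (D.I U.unop.1 U.unop.2)) congr($(𝒜.presheaf.map_id (op U.unop.1)).hom x)
  map_comp {U V W} i j := by
    refine CommRingCat.hom_ext (Ideal.Quotient.ringHom_ext (RingHom.ext fun x => ?_))
    simp only [CommRingCat.hom_ofHom, RingHom.comp_apply, CommRingCat.hom_comp]
    rw [Ideal.quotientMap_mk, Ideal.quotientMap_mk, Ideal.quotientMap_mk]
    refine congrArg (Ideal.Quotient.mk (D.I W.unop.1 W.unop.2)) ?_
    rw [← CommRingCat.comp_apply, ← Functor.map_comp]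
    rfl

/-- The structure maps. -/
def IdealDatum.str : (AffineZariskiSite.toOpensFunctor S).op ⋙ S.presheaf ⟶ D.site where
  app U := CommRingCat.ofHom ((Ideal.Quotient.mk (D.I U.unop.1 U.unop.2)).comp (𝒜.str.app (op U.unop.1)).hom)
  naturality U V i := by
    refine CommRingCat.hom_ext (RingHom.ext fun r => ?_)
    exact congrArg (Ideal.Quotient.mk (D.I V.unop.1 V.unop.2))
      congr($(𝒜.str.naturality (homOfLE (AffineZariskiSite.toOpens_mono i.unop.le)).op).hom r)

theorem IdealDatum.coequifibered : D.str.Coequifibered := by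
  refine AffineZariskiSite.coequifibered_iff_forall_isLocalizationAway.2 fun U r => ?_
  let c := (𝒜.str.app (op U.1)).hom r
  let res := (𝒜.presheaf.map (homOfLE (S.basicOpen_le r)).op).hom
  let _ := res.toAlgebra
  have hloc : IsLocalization.Away c (𝒜.presheaf.obj (op (S.basicOpen r))) := 𝒜.isQC U.1 U.2 r
  let _ := (D.site.map (homOfLE (U.basicOpen_le r)).op).hom.toAlgebra
  let mkU := Ideal.Quotient.mk (D.I U.1 U.2)
  let mkV := Ideal.Quotient.mk (D.I (S.basicOpen r) (U.2.basicOpen r))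
  let qm : _ →+* 𝒜.presheaf.obj (op (S.basicOpen r)) ⧸ D.I (S.basicOpen r) (U.2.basicOpen r) :=
    Ideal.quotientMap (I := D.I U.1 U.2) _ res fun x hx => D.res_mem U.1 U.2 r x hx
  have hqm : ∀ x, qm (mkU x) = mkV (res x) := fun x => rfl
  refine (isLocalization_iff _ _).2 ⟨?_, ?_, ?_⟩
  · rintro ⟨_, k, rfl⟩
    change IsUnit (qm (mkU c ^ k))
    rw [map_pow, hqm]
    exact ((IsLocalization.Away.algebraMap_isUnit (S := 𝒜.presheaf.obj (op (S.basicOpen r))) c).map mkV).pow k
  · intro z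
    obtain ⟨b, rfl⟩ := Ideal.Quotient.mk_surjective z
    obtain ⟨⟨x, _, k, rfl⟩, hk⟩ :=
      IsLocalization.surj (S := 𝒜.presheaf.obj (op (S.basicOpen r))) (Submonoid.powers c) b
    refine ⟨⟨mkU x, ⟨_, k, rfl⟩⟩, ?_⟩
    change mkV b * qm (mkU c ^ k) = qm (mkU x)
    rw [← map_pow, hqm, hqm, ← map_mul]
    exact congrArg mkV hk
  · intro a b hab
    obtain ⟨a, rfl⟩ := Ideal.Quotient.mk_surjective a
    obtain ⟨b, rfl⟩ := Ideal.Quotient.mk_surjective b
    change qm (mkU a) = qm (mkU b) at hab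
    rw [hqm, hqm] at hab
    have h2 : res (a - b) ∈ D.I (S.basicOpen r) (U.2.basicOpen r) := by
      rw [map_sub]; exact Ideal.Quotient.eq.1 hab
    obtain ⟨k, hk⟩ := D.lift_mem U.1 U.2 r _ h2
    refine ⟨⟨_, k, rfl⟩, ?_⟩
    change mkU c ^ k * mkU a = mkU c ^ k * mkU b
    rw [← map_pow, ← map_mul, ← map_mul]
    refine Ideal.Quotient.eq.2 ?_
    rw [← mul_sub]
    exact hk

/-- The quotient algebra. -/
def IdealDatum.qcAlg : RelSpec.QCAlg S := QCAlgLib.ofSite D.coequifibered

/-- The quotient maps on the affine site. -/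
def IdealDatum.projSite : (AffineZariskiSite.toOpensFunctor S).op ⋙ 𝒜.presheaf ⟶ D.site where
  app U := CommRingCat.ofHom (Ideal.Quotient.mk (D.I U.unop.1 U.unop.2))
  naturality _ _ _ := rfl

/-- The quotient map. -/
def IdealDatum.proj : 𝒜.toQCAlg ⟶ D.qcAlg :=
  QCAlgLib.homOfSite (D.projSite ≫ (QCAlgLib.ofSiteIso D.coequifibered).inv) fun U => by
    refine CommRingCat.hom_ext (RingHom.ext fun r => ?_)
    have hbij := ConcreteCategory.bijective_of_isIso ((QCAlgLib.ofSiteIso D.coequifibered).hom.app (op U))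
    refine hbij.1 ?_
    refine Eq.trans ?_ (congr($(QCAlgLib.str_gammaAff D.coequifibered U.1 U.2).hom r)).symm
    exact congr($((QCAlgLib.ofSiteIso D.coequifibered).inv_hom_id_app (op U)).hom
      ((D.projSite.app (op U)).hom ((𝒜.str.app (op U.1)).hom r)))

theorem IdealDatum.proj_app (U : S.Opens) (hU : IsAffineOpen U) :
    D.proj.hom.app (op U) ≫ QCAlgLib.gammaAff D.coequifibered U hU =
      CommRingCat.ofHom (Ideal.Quotient.mk (D.I U hU)) := by
  refine CommRingCat.hom_ext (RingHom.ext fun x => ?_)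
  have h : D.proj.hom.app (op U) =
      D.projSite.app (op (QCAlgLib.site U hU)) ≫ (QCAlgLib.ofSiteIso D.coequifibered).inv.app (op (QCAlgLib.site U hU)) :=
    QCAlgLib.homOfSite_app _ _ U hU
  refine (congrArg (QCAlgLib.gammaAff D.coequifibered U hU).hom congr($(h).hom x)).trans ?_
  exact congr($((QCAlgLib.ofSiteIso D.coequifibered).inv_hom_id_app (op (QCAlgLib.site U hU))).hom
    ((D.projSite.app (op (QCAlgLib.site U hU))).hom x))

theorem IdealDatum.proj_surjective (U : S.Opens) (hU : IsAffineOpen U) :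
    Function.Surjective (D.proj.hom.app (op U)).hom := by
  intro y
  have := QCAlgLib.isIso_gammaAff D.coequifibered U hU
  obtain ⟨x, hx⟩ := Ideal.Quotient.mk_surjective
    ((QCAlgLib.gammaAff D.coequifibered U hU).hom y)
  refine ⟨x, (ConcreteCategory.bijective_of_isIso (QCAlgLib.gammaAff D.coequifibered U hU)).1 ?_⟩
  exact (congr($(D.proj_app U hU).hom x)).trans hx

theorem IdealDatum.proj_eq_zero (U : S.Opens) (hU : IsAffineOpen U) (x : 𝒜.presheaf.obj (op U)) :
    (D.proj.hom.app (op U)).hom x = 0 ↔ x ∈ D.I U hU := by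
  have := QCAlgLib.isIso_gammaAff D.coequifibered U hU
  refine Iff.trans ?_ Ideal.Quotient.eq_zero_iff_mem
  refine (map_eq_zero_iff (QCAlgLib.gammaAff D.coequifibered U hU).hom
    (ConcreteCategory.bijective_of_isIso (QCAlgLib.gammaAff D.coequifibered U hU)).1).symm.trans ?_
  exact Eq.congr_left congr($(D.proj_app U hU).hom x)

theorem IdealDatum.ker_proj (U : S.Opens) (hU : IsAffineOpen U) :
    RingHom.ker (D.proj.hom.app (op U)).hom = D.I U hU :=
  Ideal.ext fun x => RingHom.mem_ker.trans (D.proj_eq_zero U hU x)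

/-- The graded quotient algebra. -/
def IdealDatum.grAlg : QCGrAlg S where
  toQCAlg := D.qcAlg
  deg U hU := pushGr (𝒜.deg U hU) (D.proj.hom.app (op U)).hom
  graded U hU := pushGradedRing (D.proj_surjective U hU) (by rw [D.ker_proj U hU]; exact D.homogeneous U hU)
  map_mem {U V} hU hV i {d y} hy := by
    obtain ⟨x, hx, rfl⟩ := hy
    exact ⟨_, 𝒜.map_mem hU hV i hx, congr($(D.proj.hom.naturality (homOfLE i).op).hom x)⟩
  str_mem U hU r := ⟨_, 𝒜.str_mem U hU r, congr($(NatTrans.congr_app D.proj.comm (op U)).hom r)⟩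

theorem IdealDatum.isGradedHom : IsGradedHom (𝒜 := 𝒜) (ℬ := D.grAlg) D.proj :=
  fun _ _ _ x hx => ⟨x, hx, rfl⟩

theorem IdealDatum.exists_deg (U : S.Opens) (hU : IsAffineOpen U) (d : ℕ)
    (y : D.grAlg.presheaf.obj (op U)) (hy : y ∈ D.grAlg.deg U hU d) :
    ∃ x ∈ 𝒜.deg U hU d, gradedHomAt (𝒜 := 𝒜) (ℬ := D.grAlg) D.proj D.isGradedHom U hU x = y := hy

theorem IdealDatum.isGenDegOne (h : 𝒜.IsGenDegOne) : D.grAlg.IsGenDegOne := by
  intro U hU
  rw [eq_top_iff]
  intro y _
  obtain ⟨x, rfl⟩ := D.proj_surjective U hU y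
  have hx : x ∈ Subring.closure ((𝒜.deg U hU 0 : Set (𝒜.presheaf.obj (op U))) ∪ (𝒜.deg U hU 1 : Set _)) := by
    rw [h U hU]; trivial
  induction hx using Subring.closure_induction with
  | mem a ha =>
    exact Subring.subset_closure (ha.elim (fun h => Or.inl ⟨a, h, rfl⟩) fun h => Or.inr ⟨a, h, rfl⟩)
  | zero => rw [map_zero]; exact Subring.zero_mem _
  | one => rw [map_one]; exact Subring.one_mem _
  | add a b _ _ ha hb => rw [map_add]; exact Subring.add_mem _ (ha trivial) (hb trivial)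
  | neg a _ ha => rw [map_neg]; exact Subring.neg_mem _ (ha trivial)
  | mul a b _ _ ha hb => rw [map_mul]; exact Subring.mul_mem _ (ha trivial) (hb trivial)

theorem IdealDatum.isFTDeg (d : ℕ) (h : 𝒜.IsFTDeg d) : D.grAlg.IsFTDeg d := by
  classical
  intro U hU
  obtain ⟨T, hT, hgen⟩ := h U hU
  let π := (D.proj.hom.app (op U)).hom
  refine ⟨T.image π, ?_, ?_⟩
  · intro y hy
    obtain ⟨t, ht, rfl⟩ := Finset.mem_image.1 hy
    exact ⟨t, hT ht, rfl⟩
  · rintro _ ⟨x, hx, rfl⟩
    obtain ⟨c, hc⟩ := hgen x hx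
    refine ⟨fun y => ∑ t ∈ T with π t = y, c t, ?_⟩
    have hstr : ∀ r, π ((𝒜.str.app (op U)).hom r) = (D.qcAlg.str.app (op U)).hom r := fun r =>
      congr($(NatTrans.congr_app D.proj.comm (op U)).hom r)
    change π x = ∑ t ∈ T.image π, (D.qcAlg.str.app (op U)).hom _ * t
    rw [hc, map_sum, ← Finset.sum_fiberwise_of_maps_to (g := π) (t := T.image π)
      fun t ht => Finset.mem_image_of_mem _ ht]
    refine Finset.sum_congr rfl fun y _ => ?_
    rw [map_sum, Finset.sum_mul]
    refine Finset.sum_congr rfl fun t ht => ?_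
    obtain ⟨-, rfl⟩ := Finset.mem_filter.1 ht
    rw [map_mul, hstr]

end Groth.Agent.ProjMor
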