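import Groth.Agent.ProjMor.ChartIdeal
import Groth.Agent.ProjMor.ChartKer
import Groth.Agent.ProjMor.Quot
import Groth.Agent.RelProjLib.QMapHom
import Groth.Agent.RelProjLib.Existence
import Groth.Agent.RelProjLib.Comp

/-! A closed subscheme of a relative Proj is the relative Proj of a graded quotient. -/

noncomputable section

universe u

open CategoryTheory CategoryTheory.Limits AlgebraicGeometry TopologicalSpace Opposite HomogeneousLocalization
open scoped HomogeneousIdeal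
open RelProj Groth.Agent.RelProjLib

namespace Groth.Agent.ProjMor

set_option backward.isDefEq.respectTransparency.types false

variable {S P Z : Scheme.{u}} {𝒜 : QCGrAlg S} {p : P ⟶ S}
  (chart : ∀ (U : S.Opens) (hU : IsAffineOpen U), (((p ⁻¹ᵁ U : P.Opens) : Scheme.{u}) ≅ Proj (𝒜.deg U hU)))
  (i : Z ⟶ P)

/-- A standard chart of a relative Proj. -/
abbrev aff (U : S.Opens) (hU : IsAffineOpen U) {d : ℕ} (hd : 0 < d) (f : 𝒜.presheaf.obj (op U))
    (hf : f ∈ 𝒜.deg U hU d) : Spec (CommRingCat.of (Away (𝒜.deg U hU) f)) ⟶ P :=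
  Proj.awayι (𝒜.deg U hU) f hf hd ≫ emb p chart U hU

/-- The ideals of `i` on the standard charts. -/
def fam (U : S.Opens) (hU : IsAffineOpen U) : ChartFam (𝒜.deg U hU) := fun d f hf =>
  if hd : 0 < d then kerAt i (aff chart U hU hd f hf) else ⊤

theorem fam_of_pos (U : S.Opens) (hU : IsAffineOpen U) {d : ℕ} (hd : 0 < d) (f : 𝒜.presheaf.obj (op U))
    (hf : f ∈ 𝒜.deg U hU d) : fam chart i U hU d f hf = kerAt i (aff chart U hU hd f hf) :=
  dif_pos hd

theorem fam_compat (U : S.Opens) (hU : IsAffineOpen U) : Compat (fam chart i U hU) := by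
  intro d e hd he f g hf hg
  rw [fam_of_pos chart i U hU hd, fam_of_pos chart i U hU he]
  refine (kerAt_comp i _ (CommRingCat.ofHom (awayMap (𝒜.deg U hU) hg rfl))).symm.trans
    (Eq.trans ?_ (kerAt_comp i _ (CommRingCat.ofHom (awayMap (𝒜.deg U hU) hf (mul_comm f g)))))
  refine kerAt_congr i ?_
  dsimp only [aff]
  rw [← Category.assoc, ← Category.assoc, Proj.SpecMap_awayMap_awayι, Proj.SpecMap_awayMap_awayι]
  refine congrArg (· ≫ emb p chart U hU) ?_
  have key : ∀ (m m' : ℕ) (hm : f * g ∈ 𝒜.deg U hU m) (hm' : f * g ∈ 𝒜.deg U hU m') (h : 0 < m) (h' : 0 < m'),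
      m = m' → Proj.awayι (𝒜.deg U hU) (f * g) hm h = Proj.awayι (𝒜.deg U hU) (f * g) hm' h' := by
    rintro m m' hm hm' h h' rfl
    rfl
  exact key _ _ _ _ _ _ (add_comm d e)

variable {chart}

theorem fam_natural (hP : IsRelProj 𝒜 p chart) (U : S.Opens) (hU : IsAffineOpen U) (r : Γ(S, U)) (d : ℕ)
    (hd : 0 < d) (f : 𝒜.presheaf.obj (op U)) (hf : f ∈ 𝒜.deg U hU d) :
    fam chart i (S.basicOpen r) (hU.basicOpen r) d (𝒜.res hU (hU.basicOpen r) (S.basicOpen_le r) f)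
        ((𝒜.res hU (hU.basicOpen r) (S.basicOpen_le r)).2 hf) =
      (fam chart i U hU d f hf).map (Away.map (𝒜.res hU (hU.basicOpen r) (S.basicOpen_le r)) f) := by
  rw [fam_of_pos chart i U hU hd, fam_of_pos chart i _ _ hd]
  refine Eq.trans (kerAt_congr i ?_)
    (kerAt_comp i _ (CommRingCat.ofHom (Away.map (𝒜.res hU (hU.basicOpen r) (S.basicOpen_le r)) f)))
  dsimp only [aff]
  rw [← map_res_emb hP U hU r]
  exact Proj.awayι_comp_map_assoc _ (𝒜.irrelevant_le_map U hU r) hd f hf (emb p chart U hU)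

theorem exists_covers [QuasiCompact p]
    (chart : ∀ (U : S.Opens) (hU : IsAffineOpen U), (((p ⁻¹ᵁ U : P.Opens) : Scheme.{u}) ≅ Proj (𝒜.deg U hU)))
    (U : S.Opens) (hU : IsAffineOpen U) :
    ∃ (ι : Type u) (_ : Finite ι) (deg : ι → ℕ) (el : ι → 𝒜.presheaf.obj (op U)),
      Covers (𝒜 := 𝒜.deg U hU) deg el := by
  classical
  have : CompactSpace ((p ⁻¹ᵁ U : P.Opens) : Scheme.{u}) :=
    isCompact_iff_compactSpace.1 (p.isCompact_preimage hU.isCompact)
  have : CompactSpace (Proj (𝒜.deg U hU)) := Scheme.homeoOfIso (chart U hU) |>.compactSpace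
  let J := {q : ℕ × 𝒜.presheaf.obj (op U) // 0 < q.1 ∧ q.2 ∈ 𝒜.deg U hU q.1}
  let B : J → Set (Proj (𝒜.deg U hU)) := fun j => (Proj.basicOpen (𝒜.deg U hU) j.1.2 : Set (Proj (𝒜.deg U hU)))
  obtain ⟨T, hT⟩ := isCompact_univ.elim_finite_subcover B
    (fun j => (Proj.basicOpen (𝒜.deg U hU) j.1.2).isOpen) (fun x _ => by
      obtain ⟨s, hs⟩ := Opens.mem_iSup.1
        (((Proj.affineOpenCover (𝒜.deg U hU)).openCover.iSup_opensRange).ge (Set.mem_univ x))
      refine Set.mem_iUnion.2 ⟨(⟨(s.1.1, s.2.1), s.1.2, s.2.2⟩ : J), ?_⟩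
      show x ∈ Proj.basicOpen (𝒜.deg U hU) (s.2 : 𝒜.presheaf.obj (op U))
      exact (Proj.opensRange_awayι (𝒜.deg U hU) (s.2 : 𝒜.presheaf.obj (op U)) s.2.2 s.1.2).le hs)
  refine ⟨T, inferInstance, fun j => j.1.1.1, fun j => j.1.1.2, ⟨fun j => j.1.2.1, fun j => j.1.2.2, ?_⟩⟩
  intro d hd f hf
  let I : Ideal (𝒜.presheaf.obj (op U)) := Ideal.span (Set.range fun j : T => j.1.1.2)
  have hI : I.IsHomogeneous (𝒜.deg U hU) :=
    Ideal.homogeneous_span _ _ fun _ ⟨j, e⟩ => ⟨j.1.1.1, e ▸ j.1.2.2⟩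
  change f ∈ I.radical
  rw [hI.radical_eq]
  refine Submodule.mem_sInf.2 fun q ⟨hq, hIq, hqp⟩ => ?_
  by_contra hfq
  let y : ProjectiveSpectrum (𝒜.deg U hU) :=
    { asHomogeneousIdeal := ⟨q, hq⟩
      isPrime := hqp
      not_irrelevant_le := fun hle => hfq (hle (HomogeneousIdeal.mem_irrelevant_of_mem _ hd hf)) }
  obtain ⟨j, hjT, hj⟩ := Set.mem_iUnion₂.1 (hT (Set.mem_univ (y : Proj (𝒜.deg U hU))))
  exact hj (hIq (Ideal.subset_span ⟨⟨j, hjT⟩, rfl⟩))

/-- The ideals cutting out `Z`. -/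
def datum (hP : IsRelProj 𝒜 p chart) [QuasiCompact p] : IdealDatum 𝒜 where
  I U hU := core (fam chart i U hU)
  homogeneous U hU := core_isHomogeneous _
  res_mem U hU r := by
    obtain ⟨ι, _, deg, el, hT⟩ := exists_covers chart U hU
    exact (core_map (fam chart i U hU) (fam chart i _ _) (isAwayZero_res 𝒜 U hU r) (𝒜.irrelevant_le_map U hU r)
      (fam_compat chart i U hU) (fam_compat chart i _ _) hT (fam_natural i hP U hU r)).1
  lift_mem U hU r := by
    obtain ⟨ι, _, deg, el, hT⟩ := exists_covers chart U hU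
    exact (core_map (fam chart i U hU) (fam chart i _ _) (isAwayZero_res 𝒜 U hU r) (𝒜.irrelevant_le_map U hU r)
      (fam_compat chart i U hU) (fam_compat chart i _ _) hT (fam_natural i hP U hU r)).2

theorem mk_eq_zero_iff {A σ : Type u} [CommRing A] [SetLike σ A] [AddSubgroupClass σ A] {ℳ : ℕ → σ}
    [GradedRing ℳ] {d : ℕ} {f : A} (hf : f ∈ ℳ d) (k : ℕ) (x : A) (hx : x ∈ ℳ (k • d)) :
    Away.mk ℳ hf k x hx = 0 ↔ ∃ n : ℕ, f ^ n * x = 0 := by
  constructor
  · intro h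
    have h1 := congrArg val h
    rw [Away.val_mk, val_zero, ← Localization.mk_zero 1, Localization.mk_eq_mk_iff,
      Localization.r_iff_exists] at h1
    obtain ⟨⟨_, n, rfl⟩, hn⟩ := h1
    exact ⟨n, by simpa using hn⟩
  · rintro ⟨n, hn⟩
    apply val_injective
    rw [Away.val_mk, val_zero, ← Localization.mk_zero 1, Localization.mk_eq_mk_iff, Localization.r_iff_exists]
    exact ⟨⟨_, n, rfl⟩, by simpa using hn⟩

/-- A standard chart of `Proj(u)` is a pullback. -/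
theorem isPullback_chart {ℬ : QCGrAlg S} (u : QGrHom (𝟙 S) 𝒜 ℬ) {PB : Scheme.{u}} {pB : PB ⟶ S}
    {chartB : ∀ (U : S.Opens) (hU : IsAffineOpen U), (((pB ⁻¹ᵁ U : PB.Opens) : Scheme.{u}) ≅ Proj (ℬ.deg U hU))}
    (hA : IsRelProj 𝒜 p chart) (hB : IsRelProj ℬ pB chartB) {h : PB ⟶ P}
    (hh : IsProjQMap u p chart pB chartB h) {U : S.Opens} (hU : IsAffineOpen U)
    (hle : U ≤ (𝟙 S : S ⟶ S) ⁻¹ᵁ U) {d : ℕ} (hd : 0 < d) (f : 𝒜.presheaf.obj (op U)) (hf : f ∈ 𝒜.deg U hU d) :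
    IsPullback (awayEmb u pB chartB U hU U hU hle hd f hf)
      (Spec.map (CommRingCat.ofHom (Away.map (u.gradedAt U hU U hU hle) f))) h (aff chart U hU hd f hf) := by
  let a := aff chart U hU hd f hf
  let e := awayEmb u pB chartB U hU U hU hle hd f hf
  have : IsOpenImmersion e := isOpenImmersion_e u pB chartB ⟨U, hU, U, hU, hle, d, hd, f, hf⟩
  have hcomm := hh.2 U hU U hU hle d hd f hf
  have hrange : h ⁻¹ᵁ a.opensRange = e.opensRange := by
    apply le_antisymm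
    · intro x hx
      obtain ⟨w, hw⟩ := hx
      have hxU : pB x ∈ U := by
        have hm : a w ∈ (emb p chart U hU).opensRange := ⟨_, rfl⟩
        rw [emb_opensRange] at hm
        change p (a w) ∈ U at hm
        rw [show a w = h x from hw, ← Scheme.Hom.comp_apply, comp_of_isProjQMap u hA hB hh] at hm
        exact hm
      have hxr : x ∈ (emb pB chartB U hU).opensRange := by rw [emb_opensRange]; exact hxU
      obtain ⟨y, rfl⟩ := hxr
      have hd' : emb pB chartB U hU y ∈ domQ u pB chartB := hh.1.ge (Set.mem_univ _)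
      have hy := (mem_image_basicOpen_iff u p pB hA hB (isProjQMapOn_of_isProjQMap u p pB hh) hU hU hle hd hf
        y hd').1 ⟨Proj.awayι (𝒜.deg U hU) f hf hd w, (Proj.opensRange_awayι (𝒜.deg U hU) f hf hd).le ⟨w, rfl⟩, hw⟩
      exact (mem_range_e u pB chartB (i := ⟨U, hU, U, hU, hle, d, hd, f, hf⟩)).2 ⟨y, rfl, hy⟩
    · rintro _ ⟨z, rfl⟩
      show h (e z) ∈ a.opensRange
      rw [← Scheme.Hom.comp_apply, hcomm]
      exact ⟨_, rfl⟩
  exact IsOpenImmersion.isPullback _ e a h hcomm hrange |>.flip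

theorem exists_aff_covering
    (chart : ∀ (U : S.Opens) (hU : IsAffineOpen U), (((p ⁻¹ᵁ U : P.Opens) : Scheme.{u}) ≅ Proj (𝒜.deg U hU)))
    (x : P) : ∃ (j : Σ U : {U : S.Opens // IsAffineOpen U},
      {q : ℕ × 𝒜.presheaf.obj (op U.1) // 0 < q.1 ∧ q.2 ∈ 𝒜.deg U.1 U.2 q.1}),
      x ∈ Set.range (aff chart j.1.1 j.1.2 j.2.2.1 j.2.1.2 j.2.2.2) := by
  obtain ⟨U, hU, y, rfl⟩ := exists_emb_apply_eq (p := p) (chart := chart) x
  obtain ⟨s, hs⟩ := Opens.mem_iSup.1 (((Proj.affineOpenCover (𝒜.deg U hU)).openCover.iSup_opensRange).ge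
    (Set.mem_univ y))
  obtain ⟨z, hz⟩ := (Proj.opensRange_awayι (𝒜.deg U hU) (s.2 : 𝒜.presheaf.obj (op U)) s.2.2 s.1.2).ge
    ((Proj.opensRange_awayι (𝒜.deg U hU) (s.2 : 𝒜.presheaf.obj (op U)) s.2.2 s.1.2).le hs)
  exact ⟨⟨⟨U, hU⟩, ⟨(s.1.1, s.2.1), s.1.2, s.2.2⟩⟩, z,
    (Scheme.Hom.comp_apply _ _ z).trans (congrArg (emb p chart U hU) hz)⟩

/-- A closed subscheme of a quasi-compact relative Proj is the relative Proj of a graded quotient. -/
theorem exists_gradedQuotient (hP : IsRelProj 𝒜 p chart) [QuasiCompact p] [IsClosedImmersion i] :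
    ∃ (D : IdealDatum 𝒜) (PB : Scheme.{u}) (pB : PB ⟶ S)
      (chartB : ∀ (U : S.Opens) (hU : IsAffineOpen U),
        (((pB ⁻¹ᵁ U : PB.Opens) : Scheme.{u}) ≅ Proj (D.grAlg.deg U hU)))
      (h : PB ⟶ P) (e : PB ≅ Z),
      IsRelProj D.grAlg pB chartB ∧
        IsProjQMap (QGrHom.ofHom (ℬ := D.grAlg) D.proj D.isGradedHom) p chart pB chartB h ∧
        e.hom ≫ i = h ∧ h ≫ p = pB := by
  let D := datum i hP
  obtain ⟨PB, pB, chartB, hB⟩ := exists_isRelProj D.grAlg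
  let u := QGrHom.ofHom (ℬ := D.grAlg) D.proj D.isGradedHom
  have happ : ∀ (U : S.Opens) (hU : IsAffineOpen U) (hle : U ≤ (𝟙 S : S ⟶ S) ⁻¹ᵁ U) (x : 𝒜.presheaf.obj (op U)),
      u.gradedAt U hU U hU hle x = (D.proj.hom.app (op U)).hom x := fun U hU hle x => by
    show (D.grAlg.presheaf.map (homOfLE hle).op).hom ((D.proj.hom.app (op U)).hom x) = _
    exact congr($(D.grAlg.presheaf.map_id (op U)).hom _)
  have hsurj : ∀ (U : S.Opens) (hU : IsAffineOpen U) (hle : U ≤ (𝟙 S : S ⟶ S) ⁻¹ᵁ U) (k : ℕ), 0 ≤ k →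
      ∀ y ∈ D.grAlg.deg U hU k, ∃ x ∈ 𝒜.deg U hU k, u.gradedAt U hU U hU hle x = y := by
    intro U hU hle k _ y hy
    obtain ⟨x, hx, e⟩ := D.exists_deg U hU k y hy
    exact ⟨x, hx, (happ U hU hle x).trans e⟩
  obtain ⟨h, hh⟩ := exists_isProjQMap u p pB hP hB
    (domQ_eq_top_of_eventually_surjective u pB chartB hsurj)
  have hci : IsClosedImmersion h :=
    qmap_property u @IsClosedImmersion hP hB hh fun U hU hle d hd f hf =>
      IsClosedImmersion.spec_of_surjective _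
        (away_map_surjective_of_eventually (u.gradedAt U hU U hU hle) (hsurj U hU hle) hd hf)
  have hker : i.ker = h.ker := by
    refine ker_eq_of_kerAt i h (fun j : Σ U : {U : S.Opens // IsAffineOpen U},
      {q : ℕ × 𝒜.presheaf.obj (op U.1) // 0 < q.1 ∧ q.2 ∈ 𝒜.deg U.1 U.2 q.1} =>
      aff chart j.1.1 j.1.2 j.2.2.1 j.2.1.2 j.2.2.2) (exists_aff_covering chart) ?_
    rintro ⟨⟨U, hU⟩, ⟨d, f⟩, hd, hf⟩
    rw [kerAt_of_isPullback h _ _ _ (isPullback_chart u hP hB hh hU (le_refl U) hd f hf),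
      ← fam_of_pos chart i U hU hd f hf]
    obtain ⟨ι, _, deg, el, hT⟩ := exists_covers chart U hU
    ext z
    obtain ⟨k, x, hx, rfl⟩ := Away.mk_surjective (𝒜.deg U hU) hf z
    rw [mk_mem_iff (fam chart i U hU) (fam_compat chart i U hU) hT hd, RingHom.mem_ker]
    refine Iff.trans ?_ (Eq.congr_left (Away.map_mk (u.gradedAt U hU U hU (le_refl U)) f hf k x hx).symm)
    rw [mk_eq_zero_iff]
    refine exists_congr fun n => ?_
    rw [happ, happ]
    refine (D.proj_eq_zero U hU (f ^ n * x)).symm.trans (Eq.congr_left ?_)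
    rw [map_mul, map_pow]
    rfl
  have := IsClosedImmersion.isIso_lift i h hker
  exact ⟨D, PB, pB, chartB, h, asIso (IsClosedImmersion.lift i h hker.le), hB, hh,
    IsClosedImmersion.lift_fac _ _ _, comp_of_isProjQMap u hP hB hh⟩

/-- A closed subscheme of a projective scheme is projective. -/
theorem isProjective_closedImmersion_comp {X Y : Scheme.{u}} {g : Y ⟶ S} (hg : RelProj.IsProjective g) (j : X ⟶ Y)
    [IsClosedImmersion j] [QuasiCompact g] : RelProj.IsProjective (j ≫ g) := by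
  obtain ⟨𝒮, P', p', chart', e, hgen, hft, hP, he⟩ := hg
  have : QuasiCompact p' := by
    rw [show p' = e.inv ≫ g by rw [← he, e.inv_hom_id_assoc]]
    infer_instance
  obtain ⟨D, PB, pB, chartB, h, e', hB, hh, hfac, hp⟩ := exists_gradedQuotient (j ≫ e.hom) hP
  refine ⟨D.grAlg, PB, pB, chartB, e'.symm, D.isGenDegOne hgen, D.isFTDeg 1 hft, hB, ?_⟩
  rw [Iso.symm_hom, ← hp, ← hfac, Category.assoc, Category.assoc, Iso.inv_hom_id_assoc, he]

end Groth.Agent.ProjMor
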