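import Groth.Agent.ProjMor.Quot
import Groth.Agent.RelProjLib.Existence
import Groth.Agent.ProperFin.PnBase
import Mathlib.AlgebraicGeometry.PullbackCarrier
import Mathlib.RingTheory.Localization.BaseChange

/-! Projective space over a scheme is the relative Proj of the polynomial algebra. -/

noncomputable section

universe u

open CategoryTheory CategoryTheory.Limits AlgebraicGeometry TopologicalSpace Opposite
open scoped HomogeneousIdeal
open RelProj

namespace Groth.Agent.ProjMor

set_option backward.isDefEq.respectTransparency.types false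

open Scheme (AffineZariskiSite)

variable (n : ℕ) (S : Scheme.{u})

/-- Polynomial rings over the affine opens. -/
def polySite : S.AffineZariskiSiteᵒᵖ ⥤ CommRingCat.{u} :=
  (AffineZariskiSite.toOpensFunctor S).op ⋙ S.presheaf ⋙
    { obj := fun R => CommRingCat.of (MvPolynomial (Fin (n + 1)) R)
      map := fun f => CommRingCat.ofHom (MvPolynomial.map f.hom)
      map_id := fun _ => CommRingCat.hom_ext (RingHom.ext MvPolynomial.map_id)
      map_comp := fun f g => CommRingCat.hom_ext (RingHom.ext fun p => (MvPolynomial.map_map f.hom g.hom p).symm) }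

/-- The structure maps. -/
def polyStr : (AffineZariskiSite.toOpensFunctor S).op ⋙ S.presheaf ⟶ polySite n S where
  app U := CommRingCat.ofHom MvPolynomial.C
  naturality U V i := CommRingCat.hom_ext (RingHom.ext fun r => (MvPolynomial.map_C _ r).symm)

theorem polyStr_coequifibered : (polyStr n S).Coequifibered := by
  refine AffineZariskiSite.coequifibered_iff_forall_isLocalizationAway.2 fun U r => ?_
  let res := (S.presheaf.map (homOfLE (S.basicOpen_le r)).op).hom
  let _ := res.toAlgebra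
  have := U.2.isLocalization_basicOpen r
  let _ : Algebra (MvPolynomial (Fin (n + 1)) Γ(S, U.1)) (MvPolynomial (Fin (n + 1)) Γ(S, S.basicOpen r)) :=
    MvPolynomial.algebraMvPolynomial
  have h := MvPolynomial.isLocalization (σ := Fin (n + 1)) (Submonoid.powers r) Γ(S, S.basicOpen r)
  rw [Submonoid.map_powers] at h
  exact h

/-- The polynomial algebra. -/
def polyQC : RelSpec.QCAlg S := QCAlgLib.ofSite (polyStr_coequifibered n S)

variable {S}

/-- Its identification over an affine open. -/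
def polyAff (U : S.Opens) (hU : IsAffineOpen U) :
    (polyQC n S).presheaf.obj (op U) ≅ CommRingCat.of (MvPolynomial (Fin (n + 1)) Γ(S, U)) :=
  @asIso _ _ _ _ (QCAlgLib.gammaAff (polyStr_coequifibered n S) U hU) (QCAlgLib.isIso_gammaAff _ _ _)

/-- The inverse identification, as a ring map. -/
def polyIn (U : S.Opens) (hU : IsAffineOpen U) :
    MvPolynomial (Fin (n + 1)) Γ(S, U) →+* (polyQC n S).presheaf.obj (op U) := (polyAff n U hU).inv.hom

theorem polyIn_surjective (U : S.Opens) (hU : IsAffineOpen U) : Function.Surjective (polyIn n U hU) :=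
  (ConcreteCategory.bijective_of_isIso (polyAff n U hU).inv).2

theorem polyIn_injective (U : S.Opens) (hU : IsAffineOpen U) : Function.Injective (polyIn n U hU) :=
  (ConcreteCategory.bijective_of_isIso (polyAff n U hU).inv).1

theorem polyIn_C (U : S.Opens) (hU : IsAffineOpen U) (r : Γ(S, U)) :
    polyIn n U hU (MvPolynomial.C r) = ((polyQC n S).str.app (op U)).hom r := by
  refine Eq.trans (congrArg (polyIn n U hU) congr($(QCAlgLib.str_gammaAff (polyStr_coequifibered n S) U hU).hom r).symm) ?_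
  exact congr($((polyAff n U hU).hom_inv_id).hom (((polyQC n S).str.app (op U)).hom r))

theorem polyIn_res_X {U V : S.AffineZariskiSite} (i : V ⟶ U) (j : Fin (n + 1)) :
    ((polyQC n S).presheaf.map (homOfLE (AffineZariskiSite.toOpens_mono i.le)).op).hom
        (polyIn n U.1 U.2 (MvPolynomial.X j)) = polyIn n V.1 V.2 (MvPolynomial.X j) := by
  have e : (polySite n S).map i.op ≫ (polyAff n V.1 V.2).inv = (polyAff n U.1 U.2).inv ≫
      (polyQC n S).presheaf.map (homOfLE (AffineZariskiSite.toOpens_mono i.le)).op :=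
    (QCAlgLib.ofSiteIso (polyStr_coequifibered n S)).inv.naturality i.op
  exact congr($(e).hom (MvPolynomial.X j)).symm.trans (congrArg (polyIn n V.1 V.2) (MvPolynomial.map_X _ j))

/-- The pieces. -/
def polyDeg (U : S.Opens) (hU : IsAffineOpen U) : ℕ → AddSubgroup ((polyQC n S).presheaf.obj (op U)) :=
  pushGr (CohB1.polyGrading n Γ(S, U)) (polyIn n U hU)

theorem ker_polyIn_homogeneous (U : S.Opens) (hU : IsAffineOpen U) :
    (RingHom.ker (polyIn n U hU)).IsHomogeneous (CohB1.polyGrading n Γ(S, U)) := by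
  rw [(RingHom.injective_iff_ker_eq_bot _).1 (polyIn_injective n U hU)]
  exact Ideal.IsHomogeneous.bot _

theorem res_polyIn_mem {U V : S.Opens} (hU : IsAffineOpen U) (hV : IsAffineOpen V) (i : V ≤ U) {d : ℕ}
    {p : MvPolynomial (Fin (n + 1)) Γ(S, U)} (hp : p.IsHomogeneous d)
    (hX : ∀ j, ((polyQC n S).presheaf.map (homOfLE i).op).hom (polyIn n U hU (MvPolynomial.X j)) =
      polyIn n V hV (MvPolynomial.X j)) :
    ((polyQC n S).presheaf.map (homOfLE i).op).hom (polyIn n U hU p) ∈ polyDeg n V hV d := by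
  refine ⟨MvPolynomial.map (S.presheaf.map (homOfLE i).op).hom p, hp.map _, ?_⟩
  have : (polyIn n V hV).comp (MvPolynomial.map (S.presheaf.map (homOfLE i).op).hom) =
      ((polyQC n S).presheaf.map (homOfLE i).op).hom.comp (polyIn n U hU) := by
    refine MvPolynomial.ringHom_ext (fun r => ?_) (fun j => ?_)
    · simp only [RingHom.comp_apply, MvPolynomial.map_C, polyIn_C]
      exact congr($((polyQC n S).str.naturality (homOfLE i).op).hom r)
    · simp only [RingHom.comp_apply, MvPolynomial.map_X]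
      exact (hX j).symm
  exact RingHom.congr_fun this p

theorem res_X {U V : S.Opens} (hU : IsAffineOpen U) (hV : IsAffineOpen V) (i : V ≤ U) (j : Fin (n + 1)) :
    ((polyQC n S).presheaf.map (homOfLE i).op).hom (polyIn n U hU (MvPolynomial.X j)) =
      polyIn n V hV (MvPolynomial.X j) := by
  let ι := {W : S.affineOpens // (W : S.Opens) ≤ V ∧ ∃ (r : Γ(S, U)) (s : Γ(S, V)), S.basicOpen r = W ∧ S.basicOpen s = W}
  refine TopCat.Sheaf.eq_of_locally_eq' (⟨(polyQC n S).presheaf, (polyQC n S).isSheaf⟩ : TopCat.Sheaf CommRingCat.{u} S.carrier)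
    (fun W : ι => W.1.1) V (fun W => homOfLE W.2.1) (fun x hx => ?_) _ _ fun W => ?_
  · obtain ⟨r, s, e, hx'⟩ := exists_basicOpen_le_affine_inter hU hV x ⟨i hx, hx⟩
    exact Opens.mem_iSup.2 ⟨⟨⟨S.basicOpen r, hU.basicOpen r⟩, e.le.trans (S.basicOpen_le s), r, s, rfl, e.symm⟩, hx'⟩
  · obtain ⟨⟨W, hW⟩, hWV, r, s, hr, hs⟩ := W
    have h1 := polyIn_res_X n (U := ⟨U, hU⟩) (V := ⟨W, hW⟩) (homOfLE (show _ from ⟨r, hr⟩)) j
    have h2 := polyIn_res_X n (U := ⟨V, hV⟩) (V := ⟨W, hW⟩) (homOfLE (show _ from ⟨s, hs⟩)) j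
    refine Eq.trans ?_ (h1.trans h2.symm)
    rw [← CommRingCat.comp_apply, ← Functor.map_comp]
    rfl

variable (S) in
/-- The polynomial algebra, graded. -/
def polyAlg : QCGrAlg S where
  toQCAlg := polyQC n S
  deg := polyDeg n
  graded U hU := pushGradedRing (polyIn_surjective n U hU) (ker_polyIn_homogeneous n U hU)
  map_mem {U V} hU hV i {d y} hy := by
    obtain ⟨p, hp, rfl⟩ := hy
    exact res_polyIn_mem n hU hV i hp (res_X n hU hV i)
  str_mem U hU r := ⟨MvPolynomial.C r, MvPolynomial.isHomogeneous_C _ r, polyIn_C n U hU r⟩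

theorem polyAlg_isGenDegOne : (polyAlg n S).IsGenDegOne := by
  intro U hU
  rw [eq_top_iff]
  intro y _
  obtain ⟨p, rfl⟩ := polyIn_surjective n U hU y
  induction p using MvPolynomial.induction_on with
  | C r => exact Subring.subset_closure (Or.inl ⟨_, MvPolynomial.isHomogeneous_C _ r, rfl⟩)
  | add p q hp hq => rw [map_add]; exact Subring.add_mem _ (hp trivial) (hq trivial)
  | mul_X p j hp =>
    rw [map_mul]
    exact Subring.mul_mem _ (hp trivial)
      (Subring.subset_closure (Or.inr ⟨_, MvPolynomial.isHomogeneous_X _ j, rfl⟩))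

theorem polyAlg_isFTDeg_one : (polyAlg n S).IsFTDeg 1 := by
  classical
  intro U hU
  let T : Finset ((polyQC n S).presheaf.obj (op U)) := Finset.univ.image fun j => polyIn n U hU (MvPolynomial.X j)
  refine ⟨T, ?_, ?_⟩
  · intro y hy
    obtain ⟨j, -, rfl⟩ := Finset.mem_image.1 hy
    exact ⟨_, MvPolynomial.isHomogeneous_X _ j, rfl⟩
  · rintro _ ⟨p, hp, rfl⟩
    change ∃ c, polyIn n U hU p = _
    refine ⟨fun y => ∑ j with polyIn n U hU (MvPolynomial.X j) = y, p.coeff (Finsupp.single j 1), ?_⟩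
    have hsum : p = ∑ j, MvPolynomial.C (p.coeff (Finsupp.single j 1)) * MvPolynomial.X j := by
      refine MvPolynomial.ext _ _ fun m => ?_
      simp only [MvPolynomial.coeff_sum, MvPolynomial.coeff_C_mul, MvPolynomial.coeff_X']
      by_cases hm : ∃ j, Finsupp.single j 1 = m
      · obtain ⟨j, rfl⟩ := hm
        rw [Finset.sum_eq_single j] <;> simp [Finsupp.single_eq_single_iff]
        intro k hk; simp [hk]
      · rw [Finset.sum_eq_zero fun j _ => by rw [if_neg fun h => hm ⟨j, h⟩, mul_zero]]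
        by_contra h
        have hdeg : m.degree = 1 := by
          have := hp h
          rw [Finsupp.degree_eq_weight_one]; exact this
        obtain ⟨j, hj⟩ := (Finsupp.sum_eq_one_iff m).1 hdeg
        exact hm ⟨j, hj.symm⟩
    conv_lhs => rw [hsum, map_sum]
    rw [← Finset.sum_fiberwise_of_maps_to (g := fun j => polyIn n U hU (MvPolynomial.X j)) (t := T)
      fun j _ => Finset.mem_image_of_mem _ (Finset.mem_univ j)]
    refine Finset.sum_congr rfl fun y _ => ?_
    rw [map_sum, Finset.sum_mul]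
    refine Finset.sum_congr rfl fun j hj => ?_
    obtain ⟨-, rfl⟩ := Finset.mem_filter.1 hj
    rw [map_mul, polyIn_C]
    rfl

/-- The identification as graded rings. -/
def polyε (U : S.Opens) (hU : IsAffineOpen U) :
    CohB1.polyGrading n Γ(S, U) →+*ᵍ (polyAlg n S).deg U hU :=
  { polyIn n U hU with map_mem := fun hp => ⟨_, hp, rfl⟩ }

/-- Its inverse. -/
def polyθ (U : S.Opens) (hU : IsAffineOpen U) :
    (polyAlg n S).deg U hU →+*ᵍ CohB1.polyGrading n Γ(S, U) :=
  { (polyAff n U hU).hom.hom with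
    map_mem := fun {d y} hy => by
      obtain ⟨p, hp, rfl⟩ := hy
      have e : (polyAff n U hU).hom.hom (polyIn n U hU p) = p := congr($((polyAff n U hU).inv_hom_id).hom p)
      exact (congrArg (· ∈ CohB1.polyGrading n Γ(S, U) d) e).mpr hp }

theorem irr_of_inverse {A B σ τ : Type u} [CommRing A] [SetLike σ A] [AddSubgroupClass σ A]
    [CommRing B] [SetLike τ B] [AddSubgroupClass τ B] {𝒜 : ℕ → σ} {ℬ : ℕ → τ} [GradedRing 𝒜] [GradedRing ℬ]
    (f : 𝒜 →+*ᵍ ℬ) (g : ℬ →+*ᵍ 𝒜) (h : ∀ b, f (g b) = b) : ℬ₊ ≤ 𝒜₊.map f := by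
  rw [HomogeneousIdeal.irrelevant_le]
  intro i hi b hb
  change b ∈ Ideal.map f (𝒜₊).toIdeal
  rw [← h b]
  exact Ideal.mem_map_of_mem _ (HomogeneousIdeal.mem_irrelevant_of_mem _ hi (g.2 hb))

theorem map_congr' {A B σ τ : Type u} [CommRing A] [SetLike σ A] [AddSubgroupClass σ A]
    [CommRing B] [SetLike τ B] [AddSubgroupClass τ B] {𝒜 : ℕ → σ} {ℬ : ℕ → τ} [GradedRing 𝒜] [GradedRing ℬ]
    {f g : 𝒜 →+*ᵍ ℬ} (hf : ℬ₊ ≤ 𝒜₊.map f) (hg : ℬ₊ ≤ 𝒜₊.map g) (h : f = g) : Proj.map f hf = Proj.map g hg := by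
  subst h; rfl

theorem θε (U : S.Opens) (hU : IsAffineOpen U) (p : MvPolynomial (Fin (n + 1)) Γ(S, U)) :
    polyθ n U hU (polyε n U hU p) = p :=
  congr($((polyAff n U hU).inv_hom_id).hom p)

theorem εθ (U : S.Opens) (hU : IsAffineOpen U) (y : (polyQC n S).presheaf.obj (op U)) :
    polyε n U hU (polyθ n U hU y) = y :=
  congr($((polyAff n U hU).hom_inv_id).hom y)

theorem irr_ε (U : S.Opens) (hU : IsAffineOpen U) :
    ((polyAlg n S).deg U hU)₊ ≤ (CohB1.polyGrading n Γ(S, U))₊.map (polyε n U hU) :=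
  irr_of_inverse (polyε n U hU) (polyθ n U hU) (εθ n U hU)

theorem irr_θ (U : S.Opens) (hU : IsAffineOpen U) :
    (CohB1.polyGrading n Γ(S, U))₊ ≤ ((polyAlg n S).deg U hU)₊.map (polyθ n U hU) :=
  irr_of_inverse (polyθ n U hU) (polyε n U hU) (θε n U hU)

theorem isIso_map_ε (U : S.Opens) (hU : IsAffineOpen U) : IsIso (Proj.map (polyε n U hU) (irr_ε n U hU)) := by
  refine ⟨⟨Proj.map (polyθ n U hU) (irr_θ n U hU), ?_, ?_⟩⟩
  · refine ((Proj.map_comp _ _ _ _).symm.trans (Eq.trans ?_ Proj.map_id))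
    exact map_congr' _ _ (GradedRingHom.ext fun x => εθ n U hU x)
  · refine ((Proj.map_comp _ _ _ _).symm.trans (Eq.trans ?_ Proj.map_id))
    exact map_congr' _ _ (GradedRingHom.ext fun x => θε n U hU x)

/-- The unique ring map from the integers. -/
def ofInt (R : Type u) [CommRing R] : ULift.{u} ℤ →+* R := (Int.castRingHom R).comp ULift.ringEquiv.toRingHom

theorem ofInt_ext {R : Type u} [CommRing R] (a b : ULift.{u} ℤ →+* R) : a = b :=
  RingHom.ext fun k => RingHom.congr_fun (Subsingleton.elim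
    (a.comp (ULift.ringEquiv (R := ℤ)).symm.toRingHom) (b.comp (ULift.ringEquiv (R := ℤ)).symm.toRingHom)) k.down

theorem from_eq {R : Type u} [CommRing R] (g : Spec (CommRingCat.of R) ⟶ S) :
    g ≫ specULiftZIsTerminal.from S = Spec.map (CommRingCat.ofHom (ofInt R)) :=
  specULiftZIsTerminal.hom_ext _ _

/-- The identification of `Proj`s. -/
def εMap (U : S.Opens) (hU : IsAffineOpen U) :
    Proj ((polyAlg n S).deg U hU) ⟶ CohB1.ProjSpace n Γ(S, U) :=
  Proj.map (polyε n U hU) (irr_ε n U hU)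

instance isIso_εMap (U : S.Opens) (hU : IsAffineOpen U) : IsIso (εMap n U hU) := isIso_map_ε n U hU

variable (S) in
/-- The projection to `P^n_ℤ`. -/
def fstP : CohB1.ProjSpaceOver n S ⟶ CohB1.ProjSpace n (ULift.{u} ℤ) :=
  pullback.fst (CohB1.ProjSpace.toSpec n (ULift.{u} ℤ)) (specULiftZIsTerminal.from S)

theorem isPullback_fstP : IsPullback (fstP n S) (CohB1.ProjSpaceOver.toBase n S)
    (CohB1.ProjSpace.toSpec n (ULift.{u} ℤ)) (specULiftZIsTerminal.from S) :=
  IsPullback.of_hasPullback _ _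

theorem pnMap_toSpec (U : S.Opens) (hU : IsAffineOpen U) :
    IsPullback (ProperFin.pnMap n (ofInt Γ(S, U))) (CohB1.ProjSpace.toSpec n Γ(S, U))
      (CohB1.ProjSpace.toSpec n (ULift.{u} ℤ)) (hU.fromSpec ≫ specULiftZIsTerminal.from S) := by
  have e : (hU.fromSpec : Spec (CommRingCat.of Γ(S, U)) ⟶ S) ≫ specULiftZIsTerminal.from S =
      Spec.map (CommRingCat.ofHom (ofInt Γ(S, U))) := from_eq _
  exact e.symm ▸ ProperFin.isPullback_pnMap n (ofInt Γ(S, U))

theorem exists_polyChart (U : S.Opens) (hU : IsAffineOpen U) :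
    ∃ c : Proj ((polyAlg n S).deg U hU) ⟶ CohB1.ProjSpaceOver n S,
      c ≫ fstP n S = εMap n U hU ≫ ProperFin.pnMap n (ofInt Γ(S, U)) ∧
      IsPullback c (εMap n U hU ≫ CohB1.ProjSpace.toSpec n Γ(S, U))
        (CohB1.ProjSpaceOver.toBase n S) hU.fromSpec := by
  have w : (εMap n U hU ≫ ProperFin.pnMap n (ofInt Γ(S, U))) ≫ CohB1.ProjSpace.toSpec n (ULift.{u} ℤ) =
      ((εMap n U hU ≫ CohB1.ProjSpace.toSpec n Γ(S, U)) ≫ hU.fromSpec) ≫ specULiftZIsTerminal.from S := by
    rw [Category.assoc, (pnMap_toSpec n U hU).w, Category.assoc, Category.assoc]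
  have outer : IsPullback (εMap n U hU ≫ ProperFin.pnMap n (ofInt Γ(S, U)))
      (εMap n U hU ≫ CohB1.ProjSpace.toSpec n Γ(S, U))
      (CohB1.ProjSpace.toSpec n (ULift.{u} ℤ)) (hU.fromSpec ≫ specULiftZIsTerminal.from S) := by
    have h1 : IsPullback (εMap n U hU) (εMap n U hU ≫ CohB1.ProjSpace.toSpec n Γ(S, U))
        (CohB1.ProjSpace.toSpec n Γ(S, U)) (𝟙 _) :=
      IsPullback.of_horiz_isIso ⟨by rw [Category.comp_id]⟩
    have h2 := h1.paste_horiz (pnMap_toSpec n U hU)
    rwa [Category.id_comp] at h2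
  refine ⟨(isPullback_fstP n).lift _ _ w, (isPullback_fstP n).lift_fst _ _ w, ?_⟩
  exact IsPullback.of_right (by rw [(isPullback_fstP n).lift_fst]; exact outer)
    ((isPullback_fstP n).lift_snd _ _ w) (isPullback_fstP n)

/-- The chart immersion. -/
def polyChart (U : S.Opens) (hU : IsAffineOpen U) :
    Proj ((polyAlg n S).deg U hU) ⟶ CohB1.ProjSpaceOver n S := (exists_polyChart n U hU).choose

theorem polyChart_fst (U : S.Opens) (hU : IsAffineOpen U) :
    polyChart n U hU ≫ fstP n S = εMap n U hU ≫ ProperFin.pnMap n (ofInt Γ(S, U)) :=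
  (exists_polyChart n U hU).choose_spec.1

theorem isPullback_polyChart (U : S.Opens) (hU : IsAffineOpen U) :
    IsPullback (polyChart n U hU) (εMap n U hU ≫ CohB1.ProjSpace.toSpec n Γ(S, U))
      (CohB1.ProjSpaceOver.toBase n S) hU.fromSpec :=
  (exists_polyChart n U hU).choose_spec.2

theorem polyChart_toBase (U : S.Opens) (hU : IsAffineOpen U) :
    polyChart n U hU ≫ CohB1.ProjSpaceOver.toBase n S =
      (εMap n U hU ≫ CohB1.ProjSpace.toSpec n Γ(S, U)) ≫ hU.fromSpec :=
  (isPullback_polyChart n U hU).w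

theorem isOpenImmersion_polyChart (U : S.Opens) (hU : IsAffineOpen U) : IsOpenImmersion (polyChart n U hU) :=
  MorphismProperty.of_isPullback (isPullback_polyChart n U hU).flip inferInstance

theorem range_polyChart (U : S.Opens) (hU : IsAffineOpen U) :
    haveI := isOpenImmersion_polyChart n U hU
    (polyChart n U hU).opensRange = CohB1.ProjSpaceOver.toBase n S ⁻¹ᵁ U := by
  have := isOpenImmersion_polyChart n U hU
  apply TopologicalSpace.Opens.ext
  change Set.range (polyChart n U hU) = _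
  rw [← (isPullback_polyChart n U hU).isoPullback_hom_fst, Scheme.Hom.comp_base, TopCat.coe_comp]
  refine ((Scheme.homeoOfIso (isPullback_polyChart n U hU).isoPullback).surjective.range_comp _).trans ?_
  rw [Scheme.Pullback.range_fst, hU.range_fromSpec]
  rfl

/-- The chart. -/
def polyChartIso (U : S.Opens) (hU : IsAffineOpen U) :
    ((CohB1.ProjSpaceOver.toBase n S ⁻¹ᵁ U : (CohB1.ProjSpaceOver n S).Opens) : Scheme.{u}) ≅
      Proj ((polyAlg n S).deg U hU) :=
  haveI := isOpenImmersion_polyChart n U hU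
  (CohB1.ProjSpaceOver n S).isoOfEq (range_polyChart n U hU).symm ≪≫ (polyChart n U hU).isoOpensRange.symm

theorem polyChartIso_hom (U : S.Opens) (hU : IsAffineOpen U) :
    (polyChartIso n U hU).hom ≫ polyChart n U hU = (CohB1.ProjSpaceOver.toBase n S ⁻¹ᵁ U).ι := by
  have := isOpenImmersion_polyChart n U hU
  simp only [polyChartIso, Iso.trans_hom, Iso.symm_hom, Category.assoc, Scheme.Hom.isoOpensRange_inv_comp,
    Scheme.isoOfEq_hom_ι]

theorem polyChart_over (U : S.Opens) (hU : IsAffineOpen U) :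
    polyChart n U hU ≫ CohB1.ProjSpaceOver.toBase n S =
      Proj.toSpecZero ((polyAlg n S).deg U hU) ≫ Spec.map ((polyAlg n S).strZero U hU) ≫ hU.fromSpec := by
  rw [polyChart_toBase]
  show (Proj.map (polyε n U hU) (irr_ε n U hU) ≫ Proj.toSpecZero (CohB1.polyGrading n Γ(S, U)) ≫
    Spec.map (CommRingCat.ofHom (algebraMap Γ(S, U) (CohB1.polyGrading n Γ(S, U) 0)))) ≫ hU.fromSpec = _
  rw [← Category.assoc (Proj.map _ _), RelProjLib.map_toSpecZero, Category.assoc, Category.assoc,
    ← Spec.map_comp_assoc]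
  congr 3
  exact CommRingCat.hom_ext (RingHom.ext fun r => Subtype.ext (polyIn_C n U hU r))

/-- `P^n_S` is the relative Proj of the polynomial algebra. -/
theorem isRelProj_projSpaceOver :
    IsRelProj (polyAlg n S) (CohB1.ProjSpaceOver.toBase n S) (polyChartIso n) := by
  refine ⟨fun U hU => ?_, fun U hU r => ?_⟩
  · rw [← polyChart_over, ← Category.assoc, polyChartIso_hom]
  · have := isOpenImmersion_polyChart n U hU
    rw [← cancel_mono (polyChart n U hU), Category.assoc, polyChartIso_hom, Scheme.homOfLE_ι,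
      ← polyChartIso_hom n (S.basicOpen r) (hU.basicOpen r), Category.assoc]
    congr 1
    symm
    refine (isPullback_fstP n).hom_ext ?_ ?_
    · rw [Category.assoc, polyChart_fst, polyChart_fst]
      show _ ≫ Proj.map (polyε n U hU) _ ≫ Proj.map (ProperFin.mapGr n (ofInt Γ(S, U))) _ =
        Proj.map (polyε n (S.basicOpen r) (hU.basicOpen r)) _ ≫
          Proj.map (ProperFin.mapGr n (ofInt Γ(S, S.basicOpen r))) _
      rw [← Proj.map_comp, ← Proj.map_comp, ← Proj.map_comp]
      refine map_congr' _ _ (GradedRingHom.ext fun p => ?_)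
      have : (((polyQC n S).presheaf.map (homOfLE (S.basicOpen_le r)).op).hom.comp (polyIn n U hU)).comp
          (MvPolynomial.map (ofInt Γ(S, U))) =
          (polyIn n (S.basicOpen r) (hU.basicOpen r)).comp (MvPolynomial.map (ofInt Γ(S, S.basicOpen r))) := by
        refine MvPolynomial.ringHom_ext' ?_ (fun j => ?_)
        · exact ofInt_ext _ _
        · simp only [RingHom.comp_apply, MvPolynomial.map_X]
          exact res_X n hU (hU.basicOpen r) (S.basicOpen_le r) j
      exact RingHom.congr_fun this p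
    · change (_ ≫ polyChart n U hU) ≫ CohB1.ProjSpaceOver.toBase n S =
        polyChart n (S.basicOpen r) (hU.basicOpen r) ≫ CohB1.ProjSpaceOver.toBase n S
      rw [Category.assoc, polyChart_over, polyChart_over, ← RelProjLib.toAffine_ι, ← RelProjLib.toAffine_ι,
        ← Category.assoc, ← S.homOfLE_ι (S.basicOpen_le r), ← Category.assoc]
      exact congrArg (· ≫ U.ι) ((RelProjLib.projNatTrans (polyAlg n S)).naturality
        (X := ⟨S.basicOpen r, hU.basicOpen r⟩) (Y := ⟨U, hU⟩) (homOfLE ⟨r, rfl⟩))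

/-- `P^n_S ⟶ S` is projective. -/
theorem isProjective_toBase : RelProj.IsProjective (CohB1.ProjSpaceOver.toBase n S) :=
  ⟨polyAlg n S, _, _, polyChartIso n, Iso.refl _, polyAlg_isGenDegOne n, polyAlg_isFTDeg_one n,
    isRelProj_projSpaceOver n, Category.id_comp _⟩

end Groth.Agent.ProjMor
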