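import Groth.Agent.ProjMor.Closed
import Groth.Agent.ProjMor.PolyAlg
import Groth.Agent.ProjProper.Basic

/-! H-projective morphisms are projective. -/

noncomputable section

universe u

open CategoryTheory AlgebraicGeometry

namespace Groth.Agent.ProjMor

/-- An H-projective morphism is projective. -/
theorem isProjective_of_isHProjective {X S : Scheme.{u}} (f : X ⟶ S) (hf : RelProj.IsHProjective f) :
    RelProj.IsProjective f := by
  obtain ⟨n, i, hi, rfl⟩ := hf
  have := Groth.Agent.ProjProper.Basic.isProper_toBase n S
  exact isProjective_closedImmersion_comp (isProjective_toBase n) i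

end Groth.Agent.ProjMor
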